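import Groth.Agent.NodeChar.Local
import Groth.Agent.NodeFam.Limit
import Groth.Agent.ArtKit.PSRing

/-!
Complete quadratic local rings are `F⟦u, v⟧/(q)`.
-/

set_option autoImplicit false
set_option linter.style.haveILetI false

universe u

open IsLocalRing MvPowerSeries

namespace Groth.Agent.NodeChar

open Groth.Agent

section root

variable {C : Type u} [CommRing C] [IsLocalRing C]

/-- one step of the approximation -/
theorem exists_step {x y a b c x₁ y₁ : C} (h : QuadData x y a b c) (n : ℕ)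
    (hx : x₁ - x ∈ maximalIdeal C ^ 2) (hy : y₁ - y ∈ maximalIdeal C ^ 2)
    (hq : qf a b c x₁ y₁ ∈ maximalIdeal C ^ (n + 3)) :
    ∃ x₂ y₂, x₂ - x₁ ∈ maximalIdeal C ^ (n + 2) ∧ y₂ - y₁ ∈ maximalIdeal C ^ (n + 2) ∧
      x₂ - x ∈ maximalIdeal C ^ 2 ∧ y₂ - y ∈ maximalIdeal C ^ 2 ∧ qf a b c x₂ y₂ ∈ maximalIdeal C ^ (n + 4) := by
  set m := maximalIdeal C
  obtain ⟨h1, hh1, h2, hh2, hsum⟩ : ∃ h1 ∈ m ^ (n + 2), ∃ h2 ∈ m ^ (n + 2), h1 * x + h2 * y = qf a b c x₁ y₁ := by
    have : qf a b c x₁ y₁ ∈ Ideal.span {x, y} * m ^ (n + 2) := by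
      rw [← h.span, ← pow_succ']; exact hq
    rw [Ideal.span_insert, Ideal.sup_mul] at this
    obtain ⟨u, hu, v, hv, huv⟩ := Submodule.mem_sup.1 this
    obtain ⟨h1, hh1, rfl⟩ := Ideal.mem_span_singleton_mul.1 hu
    obtain ⟨h2, hh2, rfl⟩ := Ideal.mem_span_singleton_mul.1 hv
    exact ⟨h1, hh1, h2, hh2, by rw [← huv]; ring⟩
  obtain ⟨D, hD⟩ := h.isUnit_disc.exists_left_inv
  set α := D * (b * h2 - 2 * c * h1)
  set β := D * (b * h1 - 2 * a * h2)
  have hα : α ∈ m ^ (n + 2) := Ideal.mul_mem_left _ _ (sub_mem (Ideal.mul_mem_left _ _ hh2) (Ideal.mul_mem_left _ _ hh1))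
  have hβ : β ∈ m ^ (n + 2) := Ideal.mul_mem_left _ _ (sub_mem (Ideal.mul_mem_left _ _ hh1) (Ideal.mul_mem_left _ _ hh2))
  have h22 : m ^ (n + 2) ≤ m ^ 2 := Ideal.pow_le_pow_right (by omega)
  refine ⟨x₁ - α, y₁ - β, by simpa using hα, by simpa using hβ, ?_, ?_, ?_⟩
  · rw [show x₁ - α - x = x₁ - x - α by ring]
    exact sub_mem hx (h22 hα)
  · rw [show y₁ - β - y = y₁ - y - β by ring]
    exact sub_mem hy (h22 hβ)
  have key : qf a b c (x₁ - α) (y₁ - β) = -(h1 * (x₁ - x) + h2 * (y₁ - y)) + qf a b c α β := by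
    have e : α * (2 * a * x₁ + b * y₁) + β * (b * x₁ + 2 * c * y₁) = h1 * x₁ + h2 * y₁ := by
      linear_combination (h1 * x₁ + h2 * y₁) * hD
    linear_combination -e - hsum
  rw [key]
  refine add_mem (neg_mem (add_mem ?_ ?_)) ?_
  · rw [show n + 4 = n + 2 + 2 by omega, pow_add]; exact Ideal.mul_mem_mul hh1 hx
  · rw [show n + 4 = n + 2 + 2 by omega, pow_add]; exact Ideal.mul_mem_mul hh2 hy
  · refine Ideal.pow_le_pow_right (show n + 4 ≤ n + 2 + (n + 2) by omega) ?_
    rw [pow_add]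
    exact add_mem (add_mem (Ideal.mul_mem_left _ _ (by rw [pow_two]; exact Ideal.mul_mem_mul hα hα))
      (by rw [mul_assoc]; exact Ideal.mul_mem_left _ _ (Ideal.mul_mem_mul hα hβ)))
      (Ideal.mul_mem_left _ _ (by rw [pow_two]; exact Ideal.mul_mem_mul hβ hβ))

/-- a relation can be made exact in a complete ring -/
theorem exists_root [IsAdicComplete (maximalIdeal C) C] {x y a b c : C} (h : QuadData x y a b c) :
    ∃ x' y', x' - x ∈ maximalIdeal C ^ 2 ∧ y' - y ∈ maximalIdeal C ^ 2 ∧ qf a b c x' y' = 0 := by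
  classical
  set m := maximalIdeal C
  let good : ℕ → C × C → Prop := fun n p =>
    p.1 - x ∈ m ^ 2 ∧ p.2 - y ∈ m ^ 2 ∧ qf a b c p.1 p.2 ∈ m ^ (n + 3)
  have h0 : good 0 (x, y) := ⟨by simp, by simp, h.mem⟩
  have hs : ∀ n, ∀ p : {p // good n p}, ∃ q : {q // good (n + 1) q},
      q.1.1 - p.1.1 ∈ m ^ (n + 2) ∧ q.1.2 - p.1.2 ∈ m ^ (n + 2) := fun n ⟨p, hp⟩ => by
    obtain ⟨x₂, y₂, e1, e2, e3, e4, e5⟩ := exists_step h n hp.1 hp.2.1 hp.2.2
    exact ⟨⟨(x₂, y₂), e3, e4, e5⟩, e1, e2⟩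
  choose step hstep1 hstep2 using hs
  let s : ∀ n, {p // good n p} := fun n => Nat.rec ⟨(x, y), h0⟩ step n
  obtain ⟨X, hX⟩ := NodeFam.exists_lim (fun n => (s n).1.1) fun n =>
    Ideal.pow_le_pow_right (show n + 1 ≤ n + 2 by omega) (hstep1 n (s n))
  obtain ⟨Y, hY⟩ := NodeFam.exists_lim (fun n => (s n).1.2) fun n =>
    Ideal.pow_le_pow_right (show n + 1 ≤ n + 2 by omega) (hstep2 n (s n))
  refine ⟨X, Y, ?_, ?_, NodeFam.eq_zero_of_forall_mem fun n => ?_⟩
  · have := add_mem (hX 2) (s 2).2.1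
    rwa [sub_add_sub_cancel] at this
  · have := add_mem (hY 2) (s 2).2.2.1
    rwa [sub_add_sub_cancel] at this
  · have e : qf a b c X Y = qf a b c (s n).1.1 (s n).1.2 + ((X - (s n).1.1) * (a * (X + (s n).1.1) + b * Y) +
        (Y - (s n).1.2) * (c * (Y + (s n).1.2) + b * (s n).1.1)) := by ring
    rw [e]
    exact add_mem (Ideal.pow_le_pow_right (show n ≤ n + 3 by omega) (s n).2.2.2)
      (add_mem (Ideal.mul_mem_right _ _ (hX n)) (Ideal.mul_mem_right _ _ (hY n)))

theorem Ind.congr {x y a b c x' y' : C} (h : QuadData x y a b c) (hI : Ind x y)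
    (hx : x' - x ∈ maximalIdeal C ^ 2) (hy : y' - y ∈ maximalIdeal C ^ 2) : Ind x' y' := by
  intro n α β hαβ
  set m := maximalIdeal C
  have h21 : m ^ 2 ≤ m := Ideal.pow_le_self two_ne_zero
  have hy' : y' ∈ m := by
    have := add_mem (h21 hy) h.mem_y; rwa [sub_add_cancel] at this
  have hd : ∀ k, y' ^ k - y ^ k ∈ m ^ (k + 1) := by
    intro k
    induction k with
    | zero => simp
    | succ k ih =>
      rw [show y' ^ (k + 1) - y ^ (k + 1) = (y' ^ k - y ^ k) * y' + y ^ k * (y' - y) by ring]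
      refine add_mem ?_ ?_
      · rw [pow_succ m]; exact Ideal.mul_mem_mul ih hy'
      · rw [show k + 1 + 1 = k + 2 by omega, pow_add]
        exact Ideal.mul_mem_mul (Ideal.pow_mem_pow h.mem_y k) hy
  refine hI n α β ?_
  have e1 : x' * y' ^ n - x * y ^ n ∈ m ^ (n + 2) := by
    rw [show x' * y' ^ n - x * y ^ n = (x' - x) * y' ^ n + x * (y' ^ n - y ^ n) by ring]
    refine add_mem ?_ ?_
    · rw [show n + 2 = 2 + n by omega, pow_add]; exact Ideal.mul_mem_mul hx (Ideal.pow_mem_pow hy' n)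
    · rw [pow_succ' m]; exact Ideal.mul_mem_mul h.mem_x (hd n)
  have := sub_mem hαβ (add_mem (Ideal.mul_mem_left _ α e1) (Ideal.mul_mem_left _ β (hd (n + 1))))
  convert! this using 1
  ring

end root

section model

variable {F : Type u} [Field F]

/-- the quadratic form as a power series -/
noncomputable abbrev qPS (a b c : F) : MvPowerSeries (Fin 2) F :=
  MvPowerSeries.C a * MvPowerSeries.X 0 ^ 2 + MvPowerSeries.C b * MvPowerSeries.X 0 * MvPowerSeries.X 1 +
    MvPowerSeries.C c * MvPowerSeries.X 1 ^ 2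

/-- the model ring -/
abbrev Model (a b c : F) : Type u := MvPowerSeries (Fin 2) F ⧸ Ideal.span {qPS a b c}

theorem exists_coords (a b c : F) (hd : disc a b c ≠ 0) :
    ∃ p r s t : F, p * t - r * s ≠ 0 ∧ qf a b c p s ≠ 0 := by
  by_cases ha : a = 0
  · by_cases hc : c = 0
    · refine ⟨1, 0, 1, 1, by simp, ?_⟩
      have : b ≠ 0 := fun h => hd (by simp [disc, ha, h])
      simpa [qf, ha, hc] using this
    · exact ⟨0, 1, 1, 0, by simp, by simpa [qf] using hc⟩
  · exact ⟨1, 0, 0, 1, by simp, by simpa [qf] using ha⟩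

variable (a b c : F)

theorem span_qPS_le : Ideal.span {qPS a b c} ≤ maximalIdeal (MvPowerSeries (Fin 2) F) := by
  rw [Ideal.span_le, Set.singleton_subset_iff, SetLike.mem_coe, mem_maximalIdeal, mem_nonunits_iff,
    MvPowerSeries.isUnit_iff_constantCoeff]
  simp [qPS]

instance isLocalRing_model : IsLocalRing (Model a b c) :=
  haveI : Nontrivial (Model a b c) := Ideal.Quotient.nontrivial_iff.2 fun h =>
    (maximalIdeal.isMaximal (MvPowerSeries (Fin 2) F)).ne_top (top_le_iff.1 (h ▸ span_qPS_le a b c))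
  IsLocalRing.of_surjective' (Ideal.Quotient.mk _) Ideal.Quotient.mk_surjective

theorem maximalIdeal_model : maximalIdeal (Model a b c) =
    Ideal.span {Ideal.Quotient.mk _ (MvPowerSeries.X 0), Ideal.Quotient.mk _ (MvPowerSeries.X 1)} := by
  rw [← IsLocalRing.map_maximalIdeal_of_surjective (Ideal.Quotient.mk (Ideal.span {qPS a b c}))
    Ideal.Quotient.mk_surjective, ← ArtPow.span_X_eq_maximalIdeal, Ideal.map_span]
  congr 1
  ext z
  simp [Fin.exists_fin_two, eq_comm]

theorem X_mem (i : Fin 2) : (MvPowerSeries.X i : MvPowerSeries (Fin 2) F) ∈ maximalIdeal (MvPowerSeries (Fin 2) F) := by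
  rw [mem_maximalIdeal, mem_nonunits_iff, MvPowerSeries.isUnit_iff_constantCoeff, MvPowerSeries.constantCoeff_X]
  exact not_isUnit_zero

/-- the model is quadratic -/
theorem isQuadLocal_model (hd : disc a b c ≠ 0) : IsQuadLocal (Model a b c) := by
  obtain ⟨p, r, s, t, hdet, hps⟩ := exists_coords a b c hd
  let π := Ideal.Quotient.mk (Ideal.span {qPS a b c})
  let γ : F →+* Model a b c := π.comp MvPowerSeries.C
  let a' := qf a b c p s
  let b' := 2 * a * p * r + b * (p * t + r * s) + 2 * c * s * t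
  let c' := qf a b c r t
  let D := (p * t - r * s)⁻¹
  let U := π (MvPowerSeries.X 0)
  let V := π (MvPowerSeries.X 1)
  let x := γ (D * t) * U - γ (D * r) * V
  let y := γ (D * p) * V - γ (D * s) * U
  have hDd : γ D * (γ p * γ t - γ r * γ s) = 1 := by
    rw [← map_mul, ← map_mul, ← map_sub, ← map_mul, inv_mul_cancel₀ hdet, map_one]
  have hU : γ p * x + γ r * y = U := by
    simp only [x, y, map_mul]; linear_combination U * hDd
  have hV : γ s * x + γ t * y = V := by
    simp only [x, y, map_mul]; linear_combination V * hDd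
  have h0 : qf (γ a) (γ b) (γ c) U V = 0 := by
    show qf (π _) (π _) (π _) (π _) (π _) = 0
    rw [← map_qf]
    exact Ideal.Quotient.eq_zero_iff_mem.2 (Ideal.subset_span rfl)
  have h1 : qf (γ a') (γ b') (γ c') x y = 0 := by
    rw [← h0, ← hU, ← hV, qf_comp]
    simp [a', b', c', map_ofNat]
  have hd' : disc a' b' c' ≠ 0 := by
    rw [disc_comp]
    exact mul_ne_zero (pow_ne_zero _ hdet) hd
  have hm : maximalIdeal (Model a b c) = Ideal.span {x, y} := by
    rw [maximalIdeal_model]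
    refine le_antisymm (Ideal.span_le.2 (Set.insert_subset (Ideal.mem_span_pair.2 ⟨_, _, hU⟩)
      (Set.singleton_subset_iff.2 (Ideal.mem_span_pair.2 ⟨_, _, hV⟩)))) (Ideal.span_le.2 ?_)
    rintro z (rfl | rfl)
    · exact sub_mem (Ideal.mul_mem_left _ _ (Ideal.subset_span (Set.mem_insert _ _)))
        (Ideal.mul_mem_left _ _ (Ideal.subset_span (Set.mem_insert_of_mem _ rfl)))
    · exact sub_mem (Ideal.mul_mem_left _ _ (Ideal.subset_span (Set.mem_insert_of_mem _ rfl)))
        (Ideal.mul_mem_left _ _ (Ideal.subset_span (Set.mem_insert _ _)))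
  have hdata : QuadData x y (γ a') (γ b') (γ c') :=
    ⟨hm, (isUnit_iff_ne_zero.2 hps).map γ, by
      have := (isUnit_iff_ne_zero.2 hd').map γ
      simpa [disc, map_ofNat] using this, by rw [h1]; exact zero_mem _⟩
  refine ⟨x, y, _, _, _, hdata, fun n α β hαβ => ?_⟩
  -- two points over the algebraic closure
  let L := AlgebraicClosure F
  let ι := algebraMap F L
  have hιa : ι a' ≠ 0 := fun h => hps ((map_eq_zero ι).1 h)
  obtain ⟨ρ, hρ⟩ : ∃ ρ : L, ι a' * ρ ^ 2 + ι b' * ρ + ι c' = 0 := by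
    obtain ⟨ρ, hρ⟩ := IsAlgClosed.exists_root (Polynomial.C (ι a') * Polynomial.X ^ 2 +
      Polynomial.C (ι b') * Polynomial.X + Polynomial.C (ι c')) (by
        rw [Polynomial.degree_quadratic hιa]; decide)
    exact ⟨ρ, by simpa [Polynomial.IsRoot] using hρ⟩
  let ρ' := -(ι b') / ι a' - ρ
  have hmul : ι a' * ρ' = -(ι b') - ι a' * ρ := by
    simp only [ρ']; rw [mul_sub, mul_div_cancel₀ _ hιa]
  have hρ' : ι a' * ρ' ^ 2 + ι b' * ρ' + ι c' = 0 := by
    linear_combination hρ + (ρ' - ρ) * hmul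
  have hne : ρ ≠ ρ' := fun h => by
    have e : ι b' = -(2 * ι a' * ρ) := by rw [← h] at hmul; linear_combination hmul
    refine hd' ((map_eq_zero ι).1 ?_)
    simp only [disc, map_sub, map_pow, map_mul, map_ofNat]
    linear_combination (ι b' + 2 * ι a' * ρ) * e - 4 * ι a' * hρ
  haveI : IsAdicComplete (maximalIdeal (PowerSeries L)) (PowerSeries L) := by
    rw [PowerSeries.maximalIdeal_eq_span_X]; infer_instance
  have heval : ∀ z : L, ι a' * z ^ 2 + ι b' * z + ι c' = 0 → ∃ ψ : Model a b c →+* PowerSeries L,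
      ψ x = PowerSeries.C z * PowerSeries.X ∧ ψ y = PowerSeries.X ∧ ∀ e : F, ψ (γ e) = PowerSeries.C (ι e) := by
    intro z hz
    obtain ⟨ψ₀, hψ₀⟩ := ArtKit.exists_evalAdic (R := F) (maximalIdeal (PowerSeries L))
      ![PowerSeries.C (ι p * z + ι r) * PowerSeries.X, PowerSeries.C (ι s * z + ι t) * PowerSeries.X] (fun i => by
        rw [PowerSeries.maximalIdeal_eq_span_X]
        fin_cases i <;> exact Ideal.mul_mem_left _ _ (Ideal.subset_span rfl))
    have hC : ∀ e : F, ψ₀ (MvPowerSeries.C e) = PowerSeries.C (ι e) := fun e => by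
      have := ψ₀.commutes e
      rw [MvPowerSeries.algebraMap_apply, Algebra.algebraMap_self, RingHom.id_apply] at this
      rw [this, PowerSeries.algebraMap_apply]
    have hX0 := hψ₀ 0
    have hX1 := hψ₀ 1
    simp only [Matrix.cons_val_zero, Matrix.cons_val_one] at hX0 hX1
    let ψ : Model a b c →+* PowerSeries L := Ideal.Quotient.lift (Ideal.span {qPS a b c}) ψ₀.toRingHom
      (fun w hw => by
        obtain ⟨v, rfl⟩ := Ideal.mem_span_singleton'.1 hw
        show ψ₀ (v * qPS a b c) = 0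
        rw [map_mul]
        have e1 : ψ₀ (qPS a b c) = PowerSeries.C (ι a' * z ^ 2 + ι b' * z + ι c') * PowerSeries.X ^ 2 := by
          simp only [qPS, map_add, map_mul, map_pow, hC, hX0, hX1, a', b', c', qf, map_ofNat]
          ring
        rw [e1, hz, map_zero, zero_mul, mul_zero])
    have hg : ∀ e : F, ψ (γ e) = PowerSeries.C (ι e) := hC
    have hU' : ψ U = PowerSeries.C (ι p * z + ι r) * PowerSeries.X := hX0
    have hV' : ψ V = PowerSeries.C (ι s * z + ι t) * PowerSeries.X := hX1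
    have hD : ι D * (ι p * ι t - ι r * ι s) = 1 := by
      rw [← map_mul, ← map_mul, ← map_sub, ← map_mul, inv_mul_cancel₀ hdet, map_one]
    have hD' := congrArg (PowerSeries.C (R := L)) hD
    simp only [map_mul, map_sub, map_one] at hD'
    refine ⟨ψ, ?_, ?_, hg⟩
    · simp only [x, map_sub, map_mul, map_add, hg, hU', hV']
      linear_combination (PowerSeries.C z * PowerSeries.X) * hD'
    · simp only [y, map_sub, map_mul, map_add, hg, hU', hV']
      linear_combination PowerSeries.X * hD'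
  -- reading off the coefficients
  have hconst : ∀ w : Model a b c, ∃ e : F, w - γ e ∈ maximalIdeal (Model a b c) := fun w => by
    obtain ⟨f, rfl⟩ := Ideal.Quotient.mk_surjective w
    refine ⟨MvPowerSeries.constantCoeff f, ?_⟩
    show π f - π _ ∈ _
    rw [← map_sub, mem_maximalIdeal, mem_nonunits_iff]
    intro hu
    haveI : IsLocalHom π := IsLocalHom.of_surjective _ Ideal.Quotient.mk_surjective
    have := isUnit_of_map_unit π _ hu
    rw [MvPowerSeries.isUnit_iff_constantCoeff] at this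
    simp at this
  obtain ⟨α₀, hα₀⟩ := hconst α
  obtain ⟨β₀, hβ₀⟩ := hconst β
  have hcoef : ∀ z : L, ι a' * z ^ 2 + ι b' * z + ι c' = 0 → ι α₀ * z + ι β₀ = 0 := fun z hz => by
    obtain ⟨ψ, hψx, hψy, hψγ⟩ := heval z hz
    have hle : ∀ k w, w ∈ maximalIdeal (Model a b c) ^ k → (PowerSeries.X : PowerSeries L) ^ k ∣ ψ w := by
      intro k w hw
      rw [← Ideal.mem_span_singleton, ← Ideal.span_singleton_pow]
      refine (Ideal.map_le_iff_le_comap.1 ?_) hw
      rw [Ideal.map_pow]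
      refine Ideal.pow_right_mono ?_ k
      rw [hm, Ideal.map_span, Ideal.span_le]
      rintro _ ⟨w', (rfl | rfl), rfl⟩
      · rw [hψx]; exact Ideal.mul_mem_left _ _ (Ideal.subset_span rfl)
      · rw [hψy]; exact Ideal.subset_span rfl
    obtain ⟨wα, hwα⟩ := hle 1 _ (by rw [pow_one]; exact hα₀)
    obtain ⟨wβ, hwβ⟩ := hle 1 _ (by rw [pow_one]; exact hβ₀)
    obtain ⟨w, hw⟩ := hle _ _ hαβ
    rw [map_sub, hψγ] at hwα hwβ
    simp only [map_add, map_mul, map_pow, hψx, hψy] at hw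
    have e : PowerSeries.X ^ (n + 1) * (PowerSeries.C (ι α₀ * z + ι β₀)) =
        PowerSeries.X ^ (n + 1) * (PowerSeries.X * (w - wα * PowerSeries.C z - wβ)) := by
      rw [map_add, map_mul]
      linear_combination hw - (PowerSeries.C z * PowerSeries.X ^ (n + 1)) * hwα - PowerSeries.X ^ (n + 1) * hwβ
    have e2 := congrArg PowerSeries.constantCoeff (mul_left_cancel₀ (pow_ne_zero _ PowerSeries.X_ne_zero) e)
    simpa using e2
  have e1 := hcoef ρ hρ
  have e2 := hcoef ρ' hρ'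
  have hα0 : α₀ = 0 := (map_eq_zero ι).1 ((mul_eq_zero.1 (show ι α₀ * (ρ - ρ') = 0 by linear_combination e1 - e2)).resolve_right
    (sub_ne_zero.2 hne))
  have hβ0 : β₀ = 0 := (map_eq_zero ι).1 (by simpa [hα0] using e1)
  rw [hα0, map_zero, sub_zero] at hα₀
  rw [hβ0, map_zero, sub_zero] at hβ₀
  exact ⟨hα₀, hβ₀⟩

end model

/-- structure of complete quadratic local rings -/
theorem exists_equiv_model {F C : Type u} [Field F] [CommRing C] [IsLocalRing C] [IsNoetherianRing C]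
    [IsAdicComplete (maximalIdeal C) C] [Algebra F C] (hres : Function.Surjective ((residue C).comp (algebraMap F C)))
    (h : IsQuadLocal C) : ∃ a b c : F, disc a b c ≠ 0 ∧ Nonempty (Model a b c ≃ₐ[F] C) := by
  obtain ⟨x, y, a, b, c, hd, hI⟩ := h
  have hcst : ∀ w : C, ∃ e : F, w - algebraMap F C e ∈ maximalIdeal C := fun w => by
    obtain ⟨e, he⟩ := hres (residue C w)
    exact ⟨e, Ideal.Quotient.eq.1 he.symm⟩
  obtain ⟨a₀, ha⟩ := hcst a
  obtain ⟨b₀, hb⟩ := hcst b
  obtain ⟨c₀, hc⟩ := hcst c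
  set ι := algebraMap F C with hι
  have hra : residue C a = residue C (ι a₀) := Ideal.Quotient.eq.2 ha
  have hrb : residue C b = residue C (ι b₀) := Ideal.Quotient.eq.2 hb
  have hrc : residue C c = residue C (ι c₀) := Ideal.Quotient.eq.2 hc
  have hd₀ : disc a₀ b₀ c₀ ≠ 0 := fun h0 => by
    refine (mem_maximalIdeal _).1 ((residue_eq_zero_iff _).1 ?_) hd.isUnit_disc
    rw [show residue C (disc a b c) = residue C (ι (disc a₀ b₀ c₀)) by simp [disc, map_ofNat, hra, hrb, hrc], h0,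
      map_zero, map_zero]
  have hq : qf (ι a₀) (ι b₀) (ι c₀) x y ∈ maximalIdeal C ^ 3 := by
    have h2 : ∀ {u v w : C}, w ∈ maximalIdeal C → u ∈ maximalIdeal C → v ∈ maximalIdeal C →
        w * (u * v) ∈ maximalIdeal C ^ 3 := fun hw hu hv => by
      rw [pow_succ', pow_two]; exact Ideal.mul_mem_mul hw (Ideal.mul_mem_mul hu hv)
    have := sub_mem hd.mem (add_mem (add_mem (h2 ha hd.mem_x hd.mem_x) (h2 hb hd.mem_x hd.mem_y))
      (h2 hc hd.mem_y hd.mem_y))
    convert! this using 1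
    simp only [qf]; ring
  have hdata : QuadData x y (ι a₀) (ι b₀) (ι c₀) := ⟨hd.span, by
    refine (isUnit_iff_ne_zero.2 fun h0 => ?_).map ι
    exact (mem_maximalIdeal _).1 ((residue_eq_zero_iff _).1 (by rw [hra, h0, map_zero, map_zero])) hd.isUnit_a, by
    have := (isUnit_iff_ne_zero.2 hd₀).map ι
    simpa [disc, map_ofNat] using this, hq⟩
  obtain ⟨X, Y, hX, hY, hq0⟩ := exists_root hdata
  have hIXY := Ind.congr hd hI hX hY
  have h21 : maximalIdeal C ^ 2 ≤ maximalIdeal C := Ideal.pow_le_self two_ne_zero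
  have hXm : X ∈ maximalIdeal C := by
    have := add_mem (h21 hX) hd.mem_x; rwa [sub_add_cancel] at this
  have hYm : Y ∈ maximalIdeal C := by
    have := add_mem (h21 hY) hd.mem_y; rwa [sub_add_cancel] at this
  obtain ⟨ψ₀, hψ₀⟩ := ArtKit.exists_evalAdic (R := F) (maximalIdeal C) ![X, Y] fun i => by
    fin_cases i <;> assumption
  have hX0 := hψ₀ 0
  have hX1 := hψ₀ 1
  simp only [Matrix.cons_val_zero, Matrix.cons_val_one] at hX0 hX1
  have hC : ∀ e : F, ψ₀ (MvPowerSeries.C e) = ι e := fun e => by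
    have := ψ₀.commutes e
    rwa [MvPowerSeries.algebraMap_apply, Algebra.algebraMap_self, RingHom.id_apply] at this
  let ψ : Model a₀ b₀ c₀ →ₐ[F] C := Ideal.Quotient.liftₐ (Ideal.span {qPS a₀ b₀ c₀}) ψ₀ (fun w hw => by
    obtain ⟨v, rfl⟩ := Ideal.mem_span_singleton'.1 hw
    rw [map_mul]
    have e : ψ₀ (qPS a₀ b₀ c₀) = qf (ι a₀) (ι b₀) (ι c₀) X Y := by
      simp [qPS, qf, hC, hX0, hX1]
    rw [e, hq0, mul_zero])
  let U : Model a₀ b₀ c₀ := Ideal.Quotient.mk _ (MvPowerSeries.X 0)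
  let V : Model a₀ b₀ c₀ := Ideal.Quotient.mk _ (MvPowerSeries.X 1)
  have hψU : ψ U = X := hX0
  have hψV : ψ V = Y := hX1
  have hsurj : Function.Surjective ψ₀ := by
    have hgen : maximalIdeal C ≤ Ideal.span {X, Y} := by
      refine Submodule.le_of_le_smul_of_le_jacobson_bot (IsNoetherian.noetherian _)
        (IsLocalRing.maximalIdeal_le_jacobson ⊥) ?_
      rw [smul_eq_mul, ← pow_two]
      nth_rw 1 [hd.span]
      refine Ideal.span_le.2 ?_
      rintro z (rfl | rfl)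
      · exact (sub_sub_cancel X z) ▸ sub_mem (Ideal.mem_sup_left (Ideal.subset_span (Set.mem_insert _ _)))
          (Ideal.mem_sup_right hX)
      · exact (sub_sub_cancel Y z) ▸ sub_mem
          (Ideal.mem_sup_left (Ideal.subset_span (Set.mem_insert_of_mem _ rfl))) (Ideal.mem_sup_right hY)
    have hmap : (maximalIdeal (MvPowerSeries (Fin 2) F)).map ψ₀.toRingHom = maximalIdeal C := by
      refine le_antisymm ?_ (hgen.trans (Ideal.span_le.2 ?_))
      · rw [← ArtPow.span_X_eq_maximalIdeal, Ideal.map_span, Ideal.span_le]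
        rintro _ ⟨_, ⟨i, rfl⟩, rfl⟩
        fin_cases i
        · show ψ₀ _ ∈ _
          exact hX0 ▸ hXm
        · show ψ₀ _ ∈ _
          exact hX1 ▸ hYm
      · rintro z (rfl | rfl)
        · exact hX0 ▸ Ideal.mem_map_of_mem ψ₀.toRingHom (show MvPowerSeries.X 0 ∈ maximalIdeal (MvPowerSeries (Fin 2) F) from
            X_mem 0)
        · exact hX1 ▸ Ideal.mem_map_of_mem ψ₀.toRingHom (show MvPowerSeries.X 1 ∈ maximalIdeal (MvPowerSeries (Fin 2) F) from
            X_mem 1)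
    haveI : IsHausdorff (Ideal.map ψ₀.toRingHom (maximalIdeal (MvPowerSeries (Fin 2) F))) C := by
      rw [hmap]; infer_instance
    haveI : IsAdicComplete (maximalIdeal (MvPowerSeries (Fin 2) F)) (MvPowerSeries (Fin 2) F) := by
      haveI : IsAdicComplete (maximalIdeal F) F := by
        rw [IsLocalRing.maximalIdeal_eq_bot]; infer_instance
      exact ArtKit.isAdicComplete_mvPowerSeries (σ := Fin 2)
    refine surjective_of_mk_map_comp_surjective (I := maximalIdeal (MvPowerSeries (Fin 2) F)) ψ₀.toRingHom fun w => ?_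
    obtain ⟨w, rfl⟩ := Ideal.Quotient.mk_surjective w
    obtain ⟨e, he⟩ := hcst w
    refine ⟨MvPowerSeries.C e, ?_⟩
    rw [RingHom.comp_apply, Ideal.Quotient.eq, hmap]
    show ψ₀ _ - w ∈ _
    rw [hC, ← neg_sub]
    exact neg_mem he
  refine ⟨a₀, b₀, c₀, hd₀, ⟨AlgEquiv.ofBijective ψ ⟨?_, fun w => ?_⟩⟩⟩
  swap
  · obtain ⟨f, rfl⟩ := hsurj w
    exact ⟨Ideal.Quotient.mk _ f, rfl⟩
  rw [injective_iff_map_eq_zero]
  intro z hz
  obtain ⟨_, _, _, _, _, hmd, -⟩ := isQuadLocal_model a₀ b₀ c₀ hd₀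
  have hnu : ∀ w, ψ w ∈ maximalIdeal C → w ∈ maximalIdeal (Model a₀ b₀ c₀) := fun w hw =>
    (mem_maximalIdeal _).2 fun hu => (mem_maximalIdeal _).1 hw (hu.map ψ)
  have hm' : maximalIdeal (Model a₀ b₀ c₀) = Ideal.span {U, V} := maximalIdeal_model a₀ b₀ c₀
  have hUm : U ∈ maximalIdeal (Model a₀ b₀ c₀) := hm' ▸ Ideal.subset_span (Set.mem_insert _ _)
  have hVm : V ∈ maximalIdeal (Model a₀ b₀ c₀) := hm' ▸ Ideal.subset_span (Set.mem_insert_of_mem _ rfl)
  let γ : F →+* Model a₀ b₀ c₀ := (Ideal.Quotient.mk _).comp MvPowerSeries.C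
  have hmodel : QuadData U V (γ a₀) (γ b₀) (γ c₀) := ⟨hm', by
      refine (isUnit_iff_ne_zero.2 fun h0 => ?_).map γ
      exact (mem_maximalIdeal _).1 ((residue_eq_zero_iff _).1 (by rw [hra, h0, map_zero, map_zero])) hd.isUnit_a, by
      have := (isUnit_iff_ne_zero.2 hd₀).map γ
      simpa [disc, map_ofNat] using this, by
      rw [show qf (γ a₀) (γ b₀) (γ c₀) U V = 0 by
        show qf (Ideal.Quotient.mk _ _) (Ideal.Quotient.mk _ _) (Ideal.Quotient.mk _ _) _ _ = 0
        rw [← map_qf]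
        exact Ideal.Quotient.eq_zero_iff_mem.2 (Ideal.subset_span rfl)]
      exact zero_mem _⟩
  have hmapm : ∀ k w, w ∈ maximalIdeal (Model a₀ b₀ c₀) ^ k → ψ w ∈ maximalIdeal C ^ k := by
    intro k w hw
    refine (Ideal.map_le_iff_le_comap (f := ψ.toRingHom)).1 ?_ hw
    rw [Ideal.map_pow]
    refine Ideal.pow_right_mono ?_ k
    rw [hm', Ideal.map_span, Ideal.span_le]
    rintro _ ⟨w', (rfl | rfl), rfl⟩
    · exact hψU ▸ hXm
    · exact hψV ▸ hYm
  have hall : ∀ n, z ∈ maximalIdeal (Model a₀ b₀ c₀) ^ (n + 1) := by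
    intro n
    induction n with
    | zero => rw [zero_add, pow_one]; exact hnu z (by rw [hz]; exact zero_mem _)
    | succ n ih =>
      obtain ⟨α, β, hαβ⟩ := exists_repr hmodel ih
      have h1 := hmapm _ _ hαβ
      rw [map_sub, hz, zero_sub, neg_mem_iff, map_add, map_mul, map_mul, map_mul, map_pow, map_pow, hψU, hψV] at h1
      obtain ⟨hα, hβ⟩ := hIXY n _ _ h1
      have h2 : α * (U * V ^ n) + β * V ^ (n + 1) ∈ maximalIdeal (Model a₀ b₀ c₀) ^ (n + 2) := by
        rw [show n + 2 = n + 1 + 1 by omega, pow_succ' _ (n + 1)]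
        exact add_mem (Ideal.mul_mem_mul (hnu α hα) (by rw [pow_succ']; exact Ideal.mul_mem_mul hUm (Ideal.pow_mem_pow hVm n)))
          (Ideal.mul_mem_mul (hnu β hβ) (Ideal.pow_mem_pow hVm (n + 1)))
      simpa using add_mem hαβ h2
  have hbot := Ideal.iInf_pow_eq_bot_of_isLocalRing (R := Model a₀ b₀ c₀) (maximalIdeal _) (maximalIdeal.isMaximal _).ne_top
  rw [← Submodule.mem_bot (Model a₀ b₀ c₀), ← hbot, Submodule.mem_iInf]
  intro n
  rcases n with _ | n
  · simp
  · exact hall n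

end Groth.Agent.NodeChar
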