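import Groth.Agent.NodeChar.Local
import Mathlib

/-!
Derivations of a localisation of `A ⊗[k] L` and unramifiedness at quadratic points.
-/

set_option autoImplicit false
set_option linter.style.haveILetI false

universe u

open IsLocalRing
open scoped TensorProduct

namespace Groth.Agent.NodeChar

attribute [local instance] Algebra.TensorProduct.rightAlgebra

variable {k A L : Type u} [Field k] [CommRing A] [Field L] [Algebra k A] [Algebra k L]
variable {Q : Ideal (A ⊗[k] L)} [Q.IsPrime]

local notation "B" => Localization.AtPrime Q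

theorem algebraMap_left (a : A) : algebraMap A B a = algebraMap (A ⊗[k] L) B (a ⊗ₜ 1) := by
  rw [IsScalarTower.algebraMap_apply A (A ⊗[k] L) B]
  rfl

theorem algebraMap_right (l : L) : algebraMap L B l = algebraMap (A ⊗[k] L) B (1 ⊗ₜ l) := by
  rw [IsScalarTower.algebraMap_apply L (A ⊗[k] L) B]
  rfl

theorem algebraMap_comm (t : k) : algebraMap A B (algebraMap k A t) = algebraMap L B (algebraMap k L t) := by
  rw [algebraMap_left, algebraMap_right]
  congr 1
  rw [Algebra.algebraMap_eq_smul_one, Algebra.algebraMap_eq_smul_one, TensorProduct.smul_tmul]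

/-- derivations of `A` extend, killing `L` -/
theorem exists_ext {R : Type u} [CommRing R] (π : B →+* R) (d : A → R) (hadd : ∀ a b, d (a + b) = d a + d b)
    (hmul : ∀ a b, d (a * b) = π (algebraMap A B a) * d b + π (algebraMap A B b) * d a)
    (hk : ∀ t, d (algebraMap k A t) = 0) :
    ∃ D : B → R, (∀ u v, D (u + v) = D u + D v) ∧ (∀ u v, D (u * v) = π u * D v + π v * D u) ∧
      (∀ a, D (algebraMap A B a) = d a) ∧ ∀ l, D (algebraMap L B l) = 0 := by
  letI : Algebra k R := ((π.comp (algebraMap A B)).comp (algebraMap k A)).toAlgebra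
  have hk' : ∀ t : k, algebraMap k R t = π (algebraMap A B (algebraMap k A t)) := fun _ => rfl
  have h1 : d 1 = 0 := by simpa using hk 1
  have h0 : d 0 = 0 := by simpa using hk 0
  let f : A →ₐ[k] DualNumber R :=
    { toFun := fun a => TrivSqZeroExt.inl (π (algebraMap A B a)) + TrivSqZeroExt.inr (d a)
      map_one' := by ext <;> simp [h1]
      map_mul' := fun a b => by
        ext <;> simp [hmul, mul_comm (π (algebraMap A B b))]
      map_zero' := by ext <;> simp [h0]
      map_add' := fun a b => by ext <;> simp [hadd]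
      commutes' := fun t => by
        rw [TrivSqZeroExt.algebraMap_eq_inl']
        ext <;> simp [hk, hk'] }
  let g : L →ₐ[k] DualNumber R :=
    { toRingHom := (TrivSqZeroExt.inlHom R R).comp (π.comp (algebraMap L B))
      commutes' := fun t => by
        rw [TrivSqZeroExt.algebraMap_eq_inl', hk', algebraMap_comm]
        rfl }
  let h : A ⊗[k] L →ₐ[k] DualNumber R := Algebra.TensorProduct.lift f g (fun _ _ => Commute.all _ _)
  have hfst : ∀ t, TrivSqZeroExt.fst (h t) = π (algebraMap _ B t) := fun t => by
    induction t using TensorProduct.induction_on with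
    | zero => simp
    | add p q hp hq => simp [hp, hq]
    | tmul a l =>
      rw [show (a ⊗ₜ[k] l : A ⊗[k] L) = a ⊗ₜ 1 * 1 ⊗ₜ l by simp, map_mul, map_mul, map_mul,
        TrivSqZeroExt.fst_mul, ← algebraMap_left, ← algebraMap_right]
      simp [h, f, g]
  have hunit : ∀ s : Q.primeCompl, IsUnit (h s) := fun s => by
    rw [TrivSqZeroExt.isUnit_iff_isUnit_fst, hfst]
    exact (IsLocalization.map_units B s).map π
  let F : B →+* DualNumber R := IsLocalization.lift (g := h.toRingHom) hunit
  have hF : ∀ t, F (algebraMap _ B t) = h t := fun t => IsLocalization.lift_eq _ _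
  have hπ : ∀ u, TrivSqZeroExt.fst (F u) = π u := fun u => by
    refine RingHom.congr_fun (IsLocalization.ringHom_ext Q.primeCompl
      (j := ((TrivSqZeroExt.fstHom R R R).toRingHom.comp F)) (k := π) (RingHom.ext fun t => ?_)) u
    show TrivSqZeroExt.fst (F _) = _
    rw [hF]; exact hfst t
  refine ⟨fun u => TrivSqZeroExt.snd (F u), fun u v => ?_, fun u v => ?_, fun a => ?_, fun l => ?_⟩
  · simp
  · simp [hπ, mul_comm (π v)]
  · simp [algebraMap_left, hF, h, f, g]
  · simp [algebraMap_right, hF, h, f, g, h0, h1]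

/-- derivations are determined on `A` and `L` -/
theorem deriv_eq_zero {M : Type u} [AddCommGroup M] [Module B M] (D : B → M) (hadd : ∀ u v, D (u + v) = D u + D v)
    (hmul : ∀ u v, D (u * v) = u • D v + v • D u) (hA : ∀ a, D (algebraMap A B a) = 0)
    (hL : ∀ l, D (algebraMap L B l) = 0) (u : B) : D u = 0 := by
  have h0 : D 0 = 0 := by
    have := hadd 0 0; rw [add_zero] at this; exact left_eq_add.1 this
  have hT : ∀ t : A ⊗[k] L, D (algebraMap _ B t) = 0 := fun t => by
    induction t using TensorProduct.induction_on with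
    | zero => rw [map_zero, h0]
    | add p q hp hq => rw [map_add, hadd, hp, hq, add_zero]
    | tmul a l =>
      rw [show (a ⊗ₜ[k] l : A ⊗[k] L) = a ⊗ₜ 1 * 1 ⊗ₜ l by simp, map_mul, hmul, ← algebraMap_left,
        ← algebraMap_right, hA, hL, smul_zero, smul_zero, add_zero]
  obtain ⟨t, s, rfl⟩ := IsLocalization.exists_mk'_eq Q.primeCompl u
  have h := hmul (IsLocalization.mk' B t s) (algebraMap _ B (s : A ⊗[k] L))
  rw [IsLocalization.mk'_spec, hT, hT, smul_zero, zero_add] at h
  exact (IsLocalization.map_units B s).smul_eq_zero.1 h.symm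

section Quad

variable {L C : Type u} [Field L] [CommRing C] [IsLocalRing C] [Algebra L C] {x y a b c : C}

/-- a derivation into the residue field with prescribed values on the coordinates -/
theorem exists_deriv_residue [Algebra.FormallySmooth L (ResidueField C)] (hd : QuadData x y a b c) (hI : Ind x y)
    (e₁ e₂ : ResidueField C) :
    ∃ δ : C → ResidueField C, (∀ u v, δ (u + v) = δ u + δ v) ∧
      (∀ u v, δ (u * v) = residue C u * δ v + residue C v * δ u) ∧ (∀ l, δ (algebraMap L C l) = 0) ∧
      δ x = e₁ ∧ δ y = e₂ := by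
  set n := maximalIdeal C with hn
  have hn2 : n ^ 2 ≤ n := Ideal.pow_le_self two_ne_zero
  let g : (C ⧸ n ^ 2) →ₐ[L] ResidueField C :=
    Ideal.Quotient.liftₐ (n ^ 2) (IsScalarTower.toAlgHom L C (ResidueField C)) fun w hw =>
      (residue_eq_zero_iff w).2 (hn2 hw)
  have hgmk : ∀ w, g (Ideal.Quotient.mk _ w) = residue C w := fun _ => rfl
  have hgs : Function.Surjective g := fun e => by
    obtain ⟨w, rfl⟩ := residue_surjective e
    exact ⟨_, hgmk w⟩
  have hgk : IsNilpotent (RingHom.ker (g : (C ⧸ n ^ 2) →+* ResidueField C)) := by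
    refine ⟨2, le_bot_iff.1 ?_⟩
    have hker : RingHom.ker (g : (C ⧸ n ^ 2) →+* ResidueField C) ≤ n.map (Ideal.Quotient.mk (n ^ 2)) := by
      intro w hw
      obtain ⟨w, rfl⟩ := Ideal.Quotient.mk_surjective w
      exact Ideal.mem_map_of_mem _ ((residue_eq_zero_iff w).1 hw)
    refine (Ideal.pow_right_mono hker 2).trans (le_of_eq ?_)
    exact (Ideal.map_pow (Ideal.Quotient.mk (n ^ 2)) n 2).symm.trans (Ideal.map_quotient_self _)
  let σ := Algebra.FormallySmooth.liftOfSurjective (AlgHom.id L (ResidueField C)) g hgs hgk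
  have hσ : ∀ e, g (σ e) = e := fun e => Algebra.FormallySmooth.liftOfSurjective_apply _ g hgs hgk e
  choose s hs using fun e => Ideal.Quotient.mk_surjective (σ e)
  have hres : ∀ e, residue C (s e) = e := fun e => by rw [← hgmk, hs, hσ]
  have hsadd : ∀ p q, s (p + q) - (s p + s q) ∈ n ^ 2 := fun p q => Ideal.Quotient.eq.1 (by
    rw [map_add, hs, hs, hs, map_add])
  have hsmul : ∀ p q, s (p * q) - s p * s q ∈ n ^ 2 := fun p q => Ideal.Quotient.eq.1 (by
    rw [map_mul, hs, hs, hs, map_mul])
  have hsL : ∀ l : L, algebraMap L C l - s (residue C (algebraMap L C l)) ∈ n ^ 2 := fun l => Ideal.Quotient.eq.1 (by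
    rw [hs, show residue C (algebraMap L C l) = algebraMap L (ResidueField C) l from rfl, σ.commutes]
    rfl)
  have hrepr : ∀ w : C, ∃ α β : C, w - s (residue C w) - (α * x + β * y) ∈ n ^ 2 := fun w => by
    have hz : w - s (residue C w) ∈ n := (residue_eq_zero_iff _).1 (by rw [map_sub, hres, sub_self])
    obtain ⟨α, β, hαβ⟩ := exists_repr hd (n := 0) (by rw [zero_add, pow_one]; exact hz)
    exact ⟨α, β, by simpa using hαβ⟩
  choose α β hαβ using hrepr
  have huniq : ∀ w α' β', w - s (residue C w) - (α' * x + β' * y) ∈ n ^ 2 →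
      residue C (α w) = residue C α' ∧ residue C (β w) = residue C β' := fun w α' β' hw => by
    have e := hI 0 (α w - α') (β w - β') (by
      have := sub_mem hw (hαβ w)
      convert! this using 1
      ring)
    simp only [← residue_eq_zero_iff, map_sub, sub_eq_zero] at e
    exact e
  have hs0 : s 0 ∈ n ^ 2 := Ideal.Quotient.eq_zero_iff_mem.1 ((hs 0).trans (map_zero σ))
  refine ⟨fun w => e₁ * residue C (α w) + e₂ * residue C (β w), fun u v => ?_, fun u v => ?_, fun l => ?_, ?_, ?_⟩
  · obtain ⟨p, q⟩ := huniq (u + v) (α u + α v) (β u + β v) (by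
      have := sub_mem (add_mem (hαβ u) (hαβ v)) (hsadd (residue C u) (residue C v))
      convert! this using 1
      rw [map_add]
      ring)
    simp only [p, q, map_add]
    ring
  · have hu : u - s (residue C u) ∈ n := (residue_eq_zero_iff _).1 (by rw [map_sub, hres, sub_self])
    have hv : v - s (residue C v) ∈ n := (residue_eq_zero_iff _).1 (by rw [map_sub, hres, sub_self])
    obtain ⟨p, q⟩ := huniq (u * v) (s (residue C u) * α v + s (residue C v) * α u)
      (s (residue C u) * β v + s (residue C v) * β u) (by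
      have := sub_mem (add_mem (add_mem (Ideal.mul_mem_left _ (s (residue C u)) (hαβ v))
        (Ideal.mul_mem_left _ (s (residue C v)) (hαβ u))) (pow_two n ▸ Ideal.mul_mem_mul hu hv))
        (hsmul (residue C u) (residue C v))
      convert! this using 1
      rw [map_mul]
      ring)
    simp only [p, q, map_add, map_mul, hres]
    ring
  · obtain ⟨p, q⟩ := huniq (algebraMap L C l) 0 0 (by simpa using hsL l)
    simp [p, q]
  · obtain ⟨p, q⟩ := huniq x 1 0 (by
      rw [(residue_eq_zero_iff x).2 hd.mem_x]
      simpa using neg_mem hs0)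
    simp [p, q]
  · obtain ⟨p, q⟩ := huniq y 0 1 (by
      rw [(residue_eq_zero_iff y).2 hd.mem_y]
      simpa using neg_mem hs0)
    simp [p, q]

omit [Algebra L C] [Field L] in
/-- a derivation sees the differential of the quadratic form -/
theorem partial_mem (hd : QuadData x y a b c) {J : Ideal C} (hJ : maximalIdeal C ^ 2 ≤ J) (D : C → C ⧸ J)
    (Dadd : ∀ u v, D (u + v) = D u + D v)
    (Dmul : ∀ u v, D (u * v) = Ideal.Quotient.mk J u * D v + Ideal.Quotient.mk J v * D u)
    {e₁ e₂ : C} (hx : ∀ d, Ideal.Quotient.mk J d = D x → d - e₁ ∈ maximalIdeal C)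
    (hy : ∀ d, Ideal.Quotient.mk J d = D y → d - e₂ ∈ maximalIdeal C) :
    (2 * a * x + b * y) * e₁ + (b * x + 2 * c * y) * e₂ ∈ J := by
  set n := maximalIdeal C
  set π := Ideal.Quotient.mk J
  have hnn : ∀ {p q : C}, p ∈ n → q ∈ n → π p * π q = 0 := fun hp hq => by
    rw [← map_mul]
    exact Ideal.Quotient.eq_zero_iff_mem.2 (hJ (pow_two n ▸ Ideal.mul_mem_mul hp hq))
  have hDn : ∀ {z : C}, z ∈ n → ∀ {w e : C}, (∀ d, π d = D w → d - e ∈ n) → π z * D w = π z * π e := by
    intro z hz w e he
    obtain ⟨d, hd'⟩ := Ideal.Quotient.mk_surjective (D w)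
    rw [← sub_eq_zero, ← hd', ← mul_sub, ← map_sub]
    exact hnn hz (he d hd')
  have D3 : ∀ z ∈ n ^ 3, D z = 0 := fun z hz => by
    rw [show 3 = 2 + 1 from rfl, pow_succ] at hz
    refine Submodule.mul_induction_on hz (fun p hp q hq => ?_) (fun p q hp hq => by rw [Dadd, hp, hq, add_zero])
    have hp0 : π p = 0 := Ideal.Quotient.eq_zero_iff_mem.2 (hJ hp)
    rw [Dmul, hp0, zero_mul, zero_add]
    rw [pow_two] at hp
    refine Submodule.mul_induction_on hp (fun p₁ h₁ p₂ h₂ => ?_) (fun p₁ p₂ h₁ h₂ => by
      rw [Dadd, mul_add, h₁, h₂, add_zero])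
    rw [Dmul, mul_add, ← mul_assoc, ← mul_assoc, hnn hq h₁, hnn hq h₂, zero_mul, zero_mul, add_zero]
  have h0 := D3 _ hd.mem
  simp only [qf, pow_two, Dadd, Dmul, map_mul] at h0
  rw [← Ideal.Quotient.eq_zero_iff_mem]
  simp only [map_add, map_mul, map_ofNat]
  linear_combination h0 - (2 * π a) * hDn hd.mem_x hx - π b * hDn hd.mem_y hx - π b * hDn hd.mem_x hy -
    (2 * π c) * hDn hd.mem_y hy - D a * hnn hd.mem_x hd.mem_x - D b * hnn hd.mem_x hd.mem_y -
    D c * hnn hd.mem_y hd.mem_y

end Quad

variable [IsLocalRing A] (hQ : Q.comap (algebraMap A (A ⊗[k] L)) = maximalIdeal A)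

include hQ in
theorem comap_eq : (maximalIdeal B).comap (algebraMap A B) = maximalIdeal A := by
  rw [← hQ, IsScalarTower.algebraMap_eq A (A ⊗[k] L) B, ← Ideal.comap_comap]
  congr 1
  exact Localization.AtPrime.comap_maximalIdeal

include hQ in
theorem isLocalHom_algebraMap : IsLocalHom (algebraMap A B) :=
  ((local_hom_TFAE (algebraMap A B)).out 0 4).2 (comap_eq hQ)

omit [IsLocalRing A] in
theorem flat_algebraMap : Module.Flat A B :=
  haveI : Module.Flat (A ⊗[k] L) B := IsLocalization.flat B Q.primeCompl
  Module.Flat.trans A (A ⊗[k] L) B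

theorem essFiniteType_right [Algebra.EssFiniteType k A] : Algebra.EssFiniteType L B := by
  haveI : Algebra.EssFiniteType L (A ⊗[k] L) :=
    (Algebra.EssFiniteType.iff_of_algEquiv (Algebra.TensorProduct.commRight k L A)).1 inferInstance
  haveI : Algebra.EssFiniteType (A ⊗[k] L) B := Algebra.EssFiniteType.of_isLocalization _ Q.primeCompl
  exact Algebra.EssFiniteType.comp L (A ⊗[k] L) B

theorem isNoetherianRing_loc [Algebra.EssFiniteType k A] : IsNoetherianRing B :=
  haveI := essFiniteType_right (k := k) (Q := Q)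
  Algebra.EssFiniteType.isNoetherianRing L B

include hQ in
/-- quadratic points with separable residue field are unramified over the original one -/
theorem map_eq_of_isQuadLocal [Algebra.EssFiniteType k A] [Algebra.IsSeparable L (ResidueField B)]
    (h : IsQuadLocal B) : (maximalIdeal A).map (algebraMap A B) = maximalIdeal B := by
  haveI := isNoetherianRing_loc (k := k) (Q := Q)
  haveI := Algebra.FormallyEtale.of_isSeparable L (ResidueField B)
  obtain ⟨x, y, a, b, c, hd, hI⟩ := h
  set n := maximalIdeal B with hn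
  have hmn : (maximalIdeal A).map (algebraMap A B) ≤ n := Ideal.map_le_iff_le_comap.2 (comap_eq hQ).ge
  refine le_antisymm hmn ?_
  let J := (maximalIdeal A).map (algebraMap A B) ⊔ n ^ 2
  have hJn : J ≤ n := sup_le hmn (Ideal.pow_le_self two_ne_zero)
  let π := Ideal.Quotient.mk J
  let κ := ResidueField A
  let iR : κ →+* B ⧸ J := Ideal.Quotient.lift (maximalIdeal A) (π.comp (algebraMap A B)) fun a ha =>
    Ideal.Quotient.eq_zero_iff_mem.2 (Ideal.mem_sup_left (Ideal.mem_map_of_mem _ ha))
  let iK : κ →+* ResidueField B := Ideal.Quotient.lift (maximalIdeal A) ((residue B).comp (algebraMap A B))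
    fun a ha => (residue_eq_zero_iff _).2 (hmn (Ideal.mem_map_of_mem _ ha))
  letI : Algebra κ (B ⧸ J) := @RingHom.toAlgebra κ (B ⧸ J) _ _ iR
  letI : Algebra κ (ResidueField B) := iK.toAlgebra
  let rr : (B ⧸ J) →+* ResidueField B :=
    Ideal.Quotient.lift J (residue B) fun w hw => (residue_eq_zero_iff w).2 (hJn hw)
  let r : (B ⧸ J) →ₗ[κ] ResidueField B :=
    ({ toRingHom := rr
       commutes' := fun e => by
         obtain ⟨a, rfl⟩ := residue_surjective e
         rfl } : (B ⧸ J) →ₐ[κ] ResidueField B).toLinearMap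
  have hrmk : ∀ w, r (π w) = residue B w := fun _ => rfl
  obtain ⟨τ, hτ⟩ := r.exists_rightInverse_of_surjective (LinearMap.range_eq_top.2 fun e => by
    obtain ⟨w, rfl⟩ := residue_surjective e
    exact ⟨π w, rfl⟩)
  have hτ' : ∀ e, r (τ e) = e := fun e => LinearMap.congr_fun hτ e
  have hτmul : ∀ (a : A) (e : ResidueField B), τ (residue B (algebraMap A B a) * e) = π (algebraMap A B a) * τ e := by
    intro a e
    have := τ.map_smul (residue A a) e
    rw [Algebra.smul_def, Algebra.smul_def] at this
    exact this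
  have hr : ∀ p q, r (π p * q) = residue B p * r q := fun p q => map_mul rr (π p) q
  have key : ∀ e₁ e₂ : B, (2 * a * x + b * y) * e₁ + (b * x + 2 * c * y) * e₂ ∈ J := by
    intro e₁ e₂
    obtain ⟨δ, δadd, δmul, δL, δx, δy⟩ := exists_deriv_residue (L := L) hd hI (residue B e₁) (residue B e₂)
    obtain ⟨D, Dadd, Dmul, DA, DL⟩ := exists_ext π (fun a => τ (δ (algebraMap A B a))) (fun p q => by
      simp only [map_add, δadd]) (fun p q => by
      simp only [map_mul, δmul, map_add, hτmul]) (fun t => by simp only [algebraMap_comm, δL, map_zero])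
    have hrD : ∀ w, r (D w) = δ w := fun w => by
      refine sub_eq_zero.1 (deriv_eq_zero (k := k) (A := A) (L := L) (fun w => r (D w) - δ w) (fun u v => ?_)
        (fun u v => ?_) (fun p => ?_) (fun l => ?_) w)
      · simp only [Dadd, map_add, δadd]; ring
      · simp only [Dmul, map_add, hr, δmul, Algebra.smul_def]
        rw [show algebraMap B (ResidueField B) = residue B from rfl]
        ring
      · simp only [DA, hτ', sub_self]
      · simp only [DL, δL, map_zero, sub_self]
    refine partial_mem hd le_sup_right D Dadd Dmul (fun d h' => ?_) (fun d h' => ?_)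
    · rw [← residue_eq_zero_iff, map_sub, ← hrmk, h', hrD, δx, sub_self]
    · rw [← residue_eq_zero_iff, map_sub, ← hrmk, h', hrD, δy, sub_self]
  obtain ⟨di, hdi⟩ := hd.isUnit_disc.exists_left_inv
  have k1 := key 1 0
  have k2 := key 0 1
  refine Submodule.le_of_le_smul_of_le_jacobson_bot (IsNoetherian.noetherian _)
    (IsLocalRing.maximalIdeal_le_jacobson ⊥) ?_
  rw [smul_eq_mul, ← pow_two]
  refine hd.span.le.trans (Ideal.span_le.2 ?_)
  rintro z (rfl | rfl)
  · have := sub_mem (Ideal.mul_mem_left _ (di * b) k2) (Ideal.mul_mem_left _ (di * 2 * c) k1)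
    convert! this using 1
    linear_combination -z * hdi
  · have := sub_mem (Ideal.mul_mem_left _ (di * b) k1) (Ideal.mul_mem_left _ (di * 2 * a) k2)
    convert! this using 1
    linear_combination -z * hdi

include hQ in
/-- an unramified point with separable residue field comes from a separable residue field -/
theorem isSeparable_of_map_eq [Algebra.EssFiniteType k A] [Algebra.IsSeparable L (ResidueField B)]
    (hm : (maximalIdeal A).map (algebraMap A B) = maximalIdeal B) : Algebra.IsSeparable k (ResidueField A) := by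
  let κ := ResidueField A
  haveI : Algebra.EssFiniteType k κ :=
    Algebra.EssFiniteType.of_surjective (IsScalarTower.toAlgHom k A κ) residue_surjective
  haveI := Algebra.FormallyUnramified.of_isSeparable L (ResidueField B)
  suffices Algebra.FormallyUnramified k κ from Algebra.FormallyUnramified.isSeparable k κ
  refine ⟨subsingleton_of_forall_eq 0 fun ω => ?_⟩
  by_contra hω
  obtain ⟨φ, hφ⟩ : ∃ φ : Ω[κ⁄k] →ₗ[κ] κ, φ ω ≠ 0 := by
    by_contra! h
    exact hω (Module.forall_dual_apply_eq_zero_iff κ ω |>.1 h)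
  let dκ : κ → κ := fun e => φ (KaehlerDifferential.D k κ e)
  let iK : κ →+* ResidueField B := Ideal.Quotient.lift (maximalIdeal A) ((residue B).comp (algebraMap A B))
    fun a ha => (residue_eq_zero_iff _).2 (hm.le (Ideal.mem_map_of_mem _ ha))
  obtain ⟨D, Dadd, Dmul, DA, DL⟩ := exists_ext (residue B) (fun a => iK (dκ (residue A a))) (fun p q => by
    simp [dκ]) (fun p q => by
    simp only [dκ, map_mul, Derivation.leibniz, map_add, map_smul, smul_eq_mul]
    rfl) (fun t => by
    rw [show residue A (algebraMap k A t) = algebraMap k κ t from rfl]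
    simp [dκ])
  have Dn : ∀ z ∈ maximalIdeal B, D z = 0 := fun z hz => by
    rw [← hm] at hz
    have hzn := hz
    refine (?_ : D z = 0 ∧ residue B z = 0).1
    refine Submodule.span_induction ?_ ?_ ?_ ?_ hz
    · rintro _ ⟨a, ha, rfl⟩
      refine ⟨by rw [DA, (residue_eq_zero_iff a).2 ha]; simp [dκ], (residue_eq_zero_iff _).2 ?_⟩
      exact hm.le (Ideal.mem_map_of_mem _ ha)
    · have := Dadd 0 0
      rw [add_zero] at this
      exact ⟨left_eq_add.1 this, map_zero _⟩
    · rintro p q - - ⟨hp, hp'⟩ ⟨hq, hq'⟩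
      exact ⟨by rw [Dadd, hp, hq, add_zero], by rw [map_add, hp', hq', add_zero]⟩
    · rintro p q - ⟨hq, hq'⟩
      exact ⟨by rw [smul_eq_mul, Dmul, hq, hq', mul_zero, zero_mul, add_zero], by rw [smul_eq_mul, map_mul, hq', mul_zero]⟩
  choose s hs using residue_surjective (R := B)
  have hDs : ∀ w e, residue B w = e → D w = D (s e) := fun w e h => by
    have := Dadd (w - s e) (s e)
    have hmem : w - s e ∈ maximalIdeal B := (residue_eq_zero_iff _).1 (by rw [map_sub, h, hs, sub_self])
    rwa [sub_add_cancel, Dn _ hmem, zero_add] at this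
  let D' : Derivation L (ResidueField B) (ResidueField B) := Derivation.mk'
    { toFun := fun e => D (s e)
      map_add' := fun p q => by
        rw [← hDs (s p + s q) (p + q) (by rw [map_add, hs, hs]), Dadd]
      map_smul' := fun l p => by
        rw [← hDs (algebraMap L B l * s p) (l • p) (by
          rw [map_mul, hs, Algebra.smul_def]; rfl), Dmul, DL, mul_zero, add_zero, RingHom.id_apply, Algebra.smul_def]
        rfl }
    (fun p q => by
      show D (s (p * q)) = p • D (s q) + q • D (s p)
      rw [← hDs (s p * s q) (p * q) (by rw [map_mul, hs, hs]), Dmul, hs, hs, smul_eq_mul, smul_eq_mul])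
  have hzero : ∀ w, D w = 0 := fun w => by
    rw [hDs w _ rfl]
    show D' (residue B w) = 0
    rw [← D'.liftKaehlerDifferential_comp_D, Subsingleton.elim (KaehlerDifferential.D L (ResidueField B) _) 0, map_zero]
  have hd0 : ∀ e, φ (KaehlerDifferential.D k κ e) = 0 := fun e => by
    obtain ⟨a, rfl⟩ := residue_surjective e
    have h1 := hzero (algebraMap A B a)
    rw [DA] at h1
    exact (map_eq_zero iK).1 h1
  refine hφ ?_
  have : φ = 0 := LinearMap.ext_on_range (KaehlerDifferential.span_range_derivation k κ) fun e => by simp [hd0 e]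
  simp [this]

/-- quotients of `B` over an unramified residue field are unramified over `L` -/
theorem formallyUnramified_quot [Algebra.FormallyUnramified k (ResidueField A)] {S : Type u} [CommRing S]
    [Algebra L S] (π : B →+* S) (hπ : Function.Surjective π) (hL : ∀ l, π (algebraMap L B l) = algebraMap L S l)
    (iI : ResidueField A →+* S) (hi : ∀ a, π (algebraMap A B a) = iI (residue A a)) :
    Algebra.FormallyUnramified L S := by
  let D₀ := KaehlerDifferential.D L S
  letI : Module (ResidueField A) Ω[S⁄L] := Module.compHom Ω[S⁄L] iI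
  letI : Module k Ω[S⁄L] := Module.compHom Ω[S⁄L] (iI.comp (algebraMap k (ResidueField A)))
  have hk : ∀ t : k, iI (algebraMap k (ResidueField A) t) = algebraMap L S (algebraMap k L t) := fun t => by
    rw [show algebraMap k (ResidueField A) t = residue A (algebraMap k A t) from rfl, ← hi, algebraMap_comm, hL]
  haveI : IsScalarTower k (ResidueField A) Ω[S⁄L] := IsScalarTower.of_algebraMap_smul fun _ _ => rfl
  let dd : Derivation k (ResidueField A) Ω[S⁄L] := Derivation.mk'
    { toFun := fun e => D₀ (iI e)
      map_add' := fun p q => by simp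
      map_smul' := fun t p => by
        show D₀ (iI (t • p)) = iI (algebraMap k _ t) • D₀ (iI p)
        rw [Algebra.smul_def, map_mul, Derivation.leibniz, hk, Derivation.map_algebraMap, smul_zero, add_zero] }
    (fun p q => by
      show D₀ (iI (p * q)) = iI p • D₀ (iI q) + iI q • D₀ (iI p)
      rw [map_mul, Derivation.leibniz])
  have hdd : ∀ e, dd e = 0 := fun e => by
    rw [← dd.liftKaehlerDifferential_comp_D, Subsingleton.elim (KaehlerDifferential.D k (ResidueField A) e) 0,
      map_zero]
  letI : Module B Ω[S⁄L] := Module.compHom Ω[S⁄L] π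
  have h0 : ∀ w : B, D₀ (π w) = 0 := deriv_eq_zero (k := k) (A := A) (L := L) (fun w => D₀ (π w))
    (fun u v => by simp)
    (fun u v => by
      show D₀ (π (u * v)) = π u • D₀ (π v) + π v • D₀ (π u)
      rw [map_mul, Derivation.leibniz])
    (fun a => (congrArg D₀ (hi a)).trans (hdd (residue A a))) (fun l => by rw [hL, D₀.map_algebraMap])
  refine ⟨subsingleton_of_forall_eq 0 fun ω => ?_⟩
  have hω : ω ∈ Submodule.span S (Set.range D₀) := KaehlerDifferential.span_range_derivation L S ▸ Submodule.mem_top
  refine Submodule.span_induction ?_ rfl (fun _ _ _ _ hp hq => by rw [hp, hq, add_zero])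
    (fun _ _ _ hp => by rw [hp, smul_zero]) hω
  rintro _ ⟨w, rfl⟩
  obtain ⟨w, rfl⟩ := hπ w
  exact h0 w

include hQ in
/-- points over a separable residue field are unramified -/
theorem map_eq_of_isSeparable [Algebra.EssFiniteType k A] [Algebra.IsSeparable k (ResidueField A)] :
    (maximalIdeal A).map (algebraMap A B) = maximalIdeal B := by
  haveI := essFiniteType_right (k := k) (Q := Q)
  haveI := Algebra.FormallyUnramified.of_isSeparable k (ResidueField A)
  set I := (maximalIdeal A).map (algebraMap A B)
  have hIn : I ≤ maximalIdeal B := Ideal.map_le_iff_le_comap.2 (comap_eq hQ).ge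
  haveI : Nontrivial (B ⧸ I) := Ideal.Quotient.nontrivial_iff.2 fun h =>
    (maximalIdeal.isMaximal B).ne_top (top_le_iff.1 (h ▸ hIn))
  haveI : IsLocalRing (B ⧸ I) := IsLocalRing.of_surjective' (Ideal.Quotient.mk I) Ideal.Quotient.mk_surjective
  haveI : Algebra.FormallyUnramified L (B ⧸ I) :=
    formallyUnramified_quot (k := k) (A := A) (Ideal.Quotient.mk I) Ideal.Quotient.mk_surjective (fun _ => rfl)
      (Ideal.Quotient.lift (maximalIdeal A) ((Ideal.Quotient.mk I).comp (algebraMap A B)) fun a ha =>
        Ideal.Quotient.eq_zero_iff_mem.2 (Ideal.mem_map_of_mem _ ha)) (fun _ => rfl)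
  haveI : IsLocalHom (algebraMap L (B ⧸ I)) := ⟨fun l hl => isUnit_iff_ne_zero.2 fun h => by
    rw [h, map_zero] at hl; exact not_isUnit_zero hl⟩
  have h1 := Algebra.FormallyUnramified.map_maximalIdeal (R := L) (S := B ⧸ I)
  rw [IsLocalRing.maximalIdeal_eq_bot, Ideal.map_bot] at h1
  refine le_antisymm hIn fun w hw => Ideal.Quotient.eq_zero_iff_mem.1 ?_
  have h2 : Ideal.Quotient.mk I w ∈ maximalIdeal (B ⧸ I) := by
    haveI : IsLocalHom (Ideal.Quotient.mk I) := IsLocalHom.of_surjective _ Ideal.Quotient.mk_surjective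
    exact (mem_maximalIdeal _).2 fun hu => (mem_maximalIdeal _).1 hw (isUnit_of_map_unit _ _ hu)
  rwa [← h1] at h2

end Groth.Agent.NodeChar
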