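import Groth.Agent.NodeChar.Complete
import Groth.Agent.AdicBasics.Dimension
import Groth.Prelude.Def_CurvBase

/-!
Quadratic local rings: reducedness, recognition, completion, ordinary double points.
-/

set_option autoImplicit false
set_option linter.style.haveILetI false

universe u

open IsLocalRing

namespace Groth.Agent.NodeChar

open Groth.Agent

variable {A : Type u} [CommRing A] [IsLocalRing A] [IsNoetherianRing A]

theorem mem_of_forall_pow {z : A} (h : ∀ n, z ∈ maximalIdeal A ^ n) : z = 0 := by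
  have hbot := Ideal.iInf_pow_eq_bot_of_isLocalRing (R := A) (maximalIdeal A) (maximalIdeal.isMaximal _).ne_top
  rw [← Submodule.mem_bot A, ← hbot, Submodule.mem_iInf]
  exact h

/-- quadratic local rings are reduced -/
theorem isReduced_of_isQuadLocal (h : IsQuadLocal A) : IsReduced A := by
  obtain ⟨x, y, a, b, c, hd, hI⟩ := h
  refine isReduced_iff_pow_one_lt 2 one_lt_two |>.2 fun w hw => mem_of_forall_pow fun n => ?_
  set m := maximalIdeal A with hm
  induction n with
  | zero => simp
  | succ n ih =>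
    rcases n with _ | n
    · rw [zero_add, pow_one, ← residue_eq_zero_iff, ← pow_eq_zero_iff two_ne_zero, ← map_pow, hw, map_zero]
    obtain ⟨p, q, hpq⟩ := exists_repr hd ih
    set v := p * (x * y ^ n) + q * y ^ (n + 1) with hv
    have hv1 : v ∈ m ^ (n + 1) := by
      have := sub_mem ih (Ideal.pow_le_pow_right (show n + 1 ≤ n + 2 by omega) hpq)
      rwa [sub_sub_cancel] at this
    have hv2 : v ^ 2 ∈ m ^ (2 * n + 3) := by
      have e : v ^ 2 = w ^ 2 - (w - v) * (w + v) := by ring
      rw [e, hw, zero_sub, neg_mem_iff, show 2 * n + 3 = (n + 2) + (n + 1) by omega, pow_add]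
      exact Ideal.mul_mem_mul hpq (add_mem ih hv1)
    obtain ⟨a', ha'⟩ := hd.isUnit_a.exists_left_inv
    have h1 := hI (2 * n + 1) (2 * p * q - p ^ 2 * a' * b) (q ^ 2 - p ^ 2 * a' * c) (by
      rw [show 2 * n + 1 + 2 = 2 * n + 3 by omega]
      have hq : qf a b c x y * y ^ (2 * n) ∈ m ^ (2 * n + 3) := by
        rw [show 2 * n + 3 = 3 + 2 * n by omega, pow_add]
        exact Ideal.mul_mem_mul hd.mem (Ideal.pow_mem_pow hd.mem_y _)
      have := sub_mem hv2 (Ideal.mul_mem_left _ (p ^ 2 * a') hq)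
      convert! this using 1
      simp only [hv, qf]
      rw [show 2 * n + 1 + 1 = (n + 1) + (n + 1) by omega, show 2 * n + 1 = n + (n + 1) by omega,
        show 2 * n = n + n by omega, pow_add, pow_add, pow_add]
      linear_combination (p ^ 2 * x ^ 2 * y ^ n * y ^ n) * ha')
    simp only [← residue_eq_zero_iff, map_sub, map_mul, map_pow, map_ofNat] at h1
    have hdu : residue A (disc a b c) ≠ 0 := fun h0 =>
      (mem_maximalIdeal _).1 ((residue_eq_zero_iff _).1 h0) hd.isUnit_disc
    simp only [disc, map_sub, map_mul, map_pow, map_ofNat] at hdu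
    set r := residue A
    have haa : r a' * r a = 1 := by rw [← map_mul, ha', map_one]
    have hp0 : r p = 0 := by
      by_contra hp
      refine hdu ?_
      have e1 : r p * (2 * r q * r a - r p * r b) = 0 := by
        linear_combination r a * h1.1 + r p ^ 2 * r b * haa
      have e2 : r q ^ 2 * r a - r p ^ 2 * r c = 0 := by
        linear_combination r a * h1.2 + r p ^ 2 * r c * haa
      have e3 := (mul_eq_zero.1 e1).resolve_left hp
      have e4 : r p ^ 2 * (r b ^ 2 - 4 * r a * r c) = 0 := by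
        linear_combination (-(2 * r q * r a + r p * r b)) * e3 + 4 * r a * e2
      exact (mul_eq_zero.1 e4).resolve_left (pow_ne_zero _ hp)
    have hq0 : r q = 0 := by
      rw [← pow_eq_zero_iff two_ne_zero]
      linear_combination h1.2 + r p * r a' * r c * hp0
    rw [residue_eq_zero_iff] at hp0 hq0
    have hv3 : v ∈ m ^ (n + 2) := by
      rw [show n + 2 = (n + 1) + 1 by omega, pow_succ' m (n + 1)]
      refine add_mem (Ideal.mul_mem_mul hp0 ?_) (Ideal.mul_mem_mul hq0 (Ideal.pow_mem_pow hd.mem_y _))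
      rw [pow_succ']
      exact Ideal.mul_mem_mul hd.mem_x (Ideal.pow_mem_pow hd.mem_y _)
    have := add_mem hpq hv3
    rwa [sub_add_cancel] at this

omit [IsNoetherianRing A] in
theorem not_isPrincipal_of_isQuadLocal (h : IsQuadLocal A) : ¬(maximalIdeal A).IsPrincipal := by
  obtain ⟨x, y, a, b, c, hd, hI⟩ := h
  rintro ⟨u, hu⟩
  obtain ⟨p, hp⟩ := Ideal.mem_span_singleton'.1 (show x ∈ Ideal.span {u} by rw [← Ideal.submodule_span_eq, ← hu]; exact hd.mem_x)
  obtain ⟨r, hr⟩ := Ideal.mem_span_singleton'.1 (show y ∈ Ideal.span {u} by rw [← Ideal.submodule_span_eq, ← hu]; exact hd.mem_y)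
  have hum : u ∈ maximalIdeal A := hu ▸ Ideal.mem_span_singleton_self u
  have h1 := hI 0 r (-p) (by
    rw [show r * (x * y ^ 0) + -p * y ^ (0 + 1) = 0 by rw [← hp, ← hr]; ring]
    exact zero_mem _)
  have h2 := hI 0 1 0 (by
    rw [pow_zero, mul_one, one_mul, zero_mul, add_zero, zero_add, ← hp, pow_two]
    exact Ideal.mul_mem_mul (neg_mem_iff.1 h1.2) hum)
  exact (maximalIdeal.isMaximal A).ne_top ((Ideal.eq_top_iff_one _).2 h2.1)

theorem finrank_cotangent_of_isQuadLocal (h : IsQuadLocal A) :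
    Module.finrank (ResidueField A) (CotangentSpace A) = 2 := by
  have h1 : ¬Module.finrank (ResidueField A) (CotangentSpace A) ≤ 1 := by
    rw [finrank_cotangentSpace_le_one_iff]
    exact not_isPrincipal_of_isQuadLocal h
  obtain ⟨x, y, a, b, c, hd, -⟩ := h
  have h2 : (maximalIdeal A).spanRank ≤ 2 := by
    rw [hd.span]
    refine (Submodule.spanRank_span_le_card _).trans ?_
    exact (Cardinal.mk_insert_le).trans (by simp; norm_num)
  rw [← rank_cotangentSpace_eq_spanrank_maximalIdeal, ← Module.finrank_eq_rank] at h2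
  have : Module.finrank (ResidueField A) (CotangentSpace A) ≤ 2 := by exact_mod_cast h2
  omega

/-- recognition of quadratic local rings among reduced rings -/
theorem isQuadLocal_of_isReduced [IsReduced A] (hnp : ¬(maximalIdeal A).IsPrincipal) {x y a b c : A}
    (hs : maximalIdeal A = Ideal.span {x, y}) (hd : IsUnit (disc a b c))
    (hq : qf a b c x y ∈ maximalIdeal A ^ 3) : IsQuadLocal A := by
  obtain ⟨x, y, a, b, c, hd, -⟩ := exists_quadData hs hd hq
  refine ⟨x, y, a, b, c, hd, fun n α β hαβ => ?_⟩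
  set m := maximalIdeal A with hm
  -- a regular element
  obtain ⟨t, htm, ht⟩ : ∃ t ∈ m, t ∈ nonZeroDivisors A := by
    by_contra! hno
    have hsub : (m : Set A) ⊆ ⋃ p ∈ associatedPrimes A A, (p : Set A) := fun t ht => by
      rw [biUnion_associatedPrimes_eq_compl_regular]
      simpa [isSMulRegular_iff_right_eq_zero_of_smul, mem_nonZeroDivisors_iff_right, mul_comm] using hno t ht
    obtain ⟨p, hp, hmp⟩ := (Ideal.subset_union_prime_finite (associatedPrimes.finite A A) m m
      (fun p hp _ _ => hp.isPrime)).1 hsub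
    obtain rfl : p = m := ((maximalIdeal.isMaximal A).eq_of_le hp.isPrime.ne_top hmp).symm
    obtain ⟨-, s, hsm⟩ := isAssociatedPrime_iff.1 hp
    have hmul : ∀ z, z ∈ m ↔ z * s = 0 := fun z => by
      show z ∈ m ↔ _
      rw [hsm, Submodule.mem_colon_singleton, smul_eq_mul]
      simp
    by_cases hs0 : IsUnit s
    · refine hnp ⟨0, ?_⟩
      rw [Submodule.span_zero_singleton, eq_bot_iff]
      exact fun z hz => (hs0.mul_left_eq_zero).1 ((hmul z).1 hz)
    · have hss : s * s = 0 := (hmul s).1 ((mem_maximalIdeal s).2 hs0)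
      have : s = 0 := IsReduced.eq_zero s ⟨2, by rw [pow_two, hss]⟩
      exact (maximalIdeal.isMaximal A).ne_top ((Ideal.eq_top_iff_one _).2 ((hmul 1).2 (by rw [this, mul_zero])))
  by_contra hne
  -- generators of the powers
  have hgen : ∀ k, (∃ α β : A, α * (x * y ^ k) + β * y ^ (k + 1) ∈ m ^ (k + 2) ∧ ¬(α ∈ m ∧ β ∈ m)) →
      ∃ w, m ^ (k + 1) = Ideal.span {w} := by
    rintro k ⟨α, β, hk, hne⟩
    have hx : x * y ^ k ∈ m ^ (k + 1) := by rw [pow_succ']; exact Ideal.mul_mem_mul hd.mem_x (Ideal.pow_mem_pow hd.mem_y k)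
    have hy : y ^ (k + 1) ∈ m ^ (k + 1) := Ideal.pow_mem_pow hd.mem_y _
    have conclude : ∀ w ∈ m ^ (k + 1), x * y ^ k ∈ Ideal.span {w} ⊔ m ^ (k + 2) →
        y ^ (k + 1) ∈ Ideal.span {w} ⊔ m ^ (k + 2) → ∃ w, m ^ (k + 1) = Ideal.span {w} := by
      intro w hw h1 h2
      refine ⟨w, le_antisymm ?_ ((Ideal.span_singleton_le_iff_mem _).2 hw)⟩
      refine Submodule.le_of_le_smul_of_le_jacobson_bot (IsNoetherian.noetherian _)
        (IsLocalRing.maximalIdeal_le_jacobson ⊥) ?_
      rw [smul_eq_mul, ← pow_succ', show k + 1 + 1 = k + 2 from rfl]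
      exact (hd.pow_le k).trans (sup_le (Ideal.span_le.2 (Set.insert_subset h1 (Set.singleton_subset_iff.2 h2))) le_sup_right)
    by_cases hα : α ∈ m
    · have hβ : IsUnit β := not_not.1 fun h => hne ⟨hα, (mem_maximalIdeal β).2 h⟩
      obtain ⟨β', hβ'⟩ := hβ.exists_left_inv
      refine conclude _ hx (Ideal.mem_sup_left (Ideal.subset_span rfl)) ?_
      rw [show y ^ (k + 1) = -(β' * α) * (x * y ^ k) + β' * (α * (x * y ^ k) + β * y ^ (k + 1)) by
        linear_combination -(y ^ (k + 1)) * hβ']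
      exact Submodule.add_mem_sup (Ideal.mem_span_singleton'.2 ⟨_, rfl⟩) (Ideal.mul_mem_left _ _ hk)
    · have hα' : IsUnit α := not_not.1 fun h => hα ((mem_maximalIdeal α).2 h)
      obtain ⟨α', hα''⟩ := hα'.exists_left_inv
      refine conclude _ hy ?_ (Ideal.mem_sup_left (Ideal.subset_span rfl))
      rw [show x * y ^ k = -(α' * β) * y ^ (k + 1) + α' * (α * (x * y ^ k) + β * y ^ (k + 1)) by
        linear_combination -(x * y ^ k) * hα'']
      exact Submodule.add_mem_sup (Ideal.mem_span_singleton'.2 ⟨_, rfl⟩) (Ideal.mul_mem_left _ _ hk)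
  obtain ⟨w, hw⟩ := hgen n ⟨α, β, hαβ, hne⟩
  obtain ⟨w', hw'⟩ := hgen (n + 1) ⟨α, β, by
    have := Ideal.mul_mem_mul hαβ hd.mem_y
    rw [← pow_succ] at this
    convert! this using 1
    ring, hne⟩
  have hwnzd : w ∈ nonZeroDivisors A := by
    obtain ⟨s, hs⟩ := Ideal.mem_span_singleton'.1 (hw ▸ Ideal.pow_mem_pow htm (n + 1) :
      t ^ (n + 1) ∈ Ideal.span {w})
    exact ((mul_mem_nonZeroDivisors).1 (hs ▸ pow_mem ht (n + 1))).2
  have hprod : m ^ (n + 1 + 1) = Ideal.span {w} * m := by rw [pow_succ m (n + 1), hw]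
  obtain ⟨u, hu, hwu⟩ := Ideal.mem_span_singleton_mul.1 (hprod ▸ hw' ▸ Ideal.subset_span rfl :
    w' ∈ Ideal.span {w} * m)
  refine hnp ⟨u, le_antisymm (fun v hv => ?_) ((Ideal.span_singleton_le_iff_mem _).2 hu)⟩
  have hwv : w * v ∈ Ideal.span {w'} := by
    rw [← hw', hprod]; exact Ideal.mul_mem_mul (Ideal.subset_span rfl) hv
  obtain ⟨r, hr⟩ := Ideal.mem_span_singleton'.1 hwv
  refine Ideal.mem_span_singleton'.2 ⟨r, ?_⟩
  rw [← sub_eq_zero]
  refine hwnzd.1 _ ?_
  linear_combination hr + r * hwu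

section Completion

local notation "Ah" => AdicCompletion (maximalIdeal A) A

theorem isQuadLocal_completion_iff : IsQuadLocal Ah ↔ IsQuadLocal A := by
  haveI : Module.Flat A Ah := AdicCompletion.flat_of_isNoetherian _
  have hm : (maximalIdeal A).map (algebraMap A Ah) = maximalIdeal Ah := AdicCompletion.maximalIdeal_eq_map.symm
  haveI : IsLocalHom (algebraMap A Ah) := ((local_hom_TFAE (algebraMap A Ah)).out 0 2).2 hm.le
  exact ⟨fun h => h.descend hm, fun h => h.map hm⟩

theorem isAdicComplete_completion : IsAdicComplete (maximalIdeal Ah) Ah := by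
  have := AdicCompletion.isAdicComplete_self (maximalIdeal A) (IsNoetherian.noetherian _)
  rwa [← AdicCompletion.maximalIdeal_eq_map] at this

/-- separable residue fields lift to the completion -/
theorem exists_coeffField (k : Type u) [Field k] [Algebra k A] [Algebra.IsSeparable k (ResidueField A)] :
    ∃ ι : ResidueField A →+* Ah, (∀ t : k, ι (algebraMap k (ResidueField A) t) = algebraMap A Ah (algebraMap k A t)) ∧
      Function.Surjective ((residue Ah).comp ι) := by
  haveI := Algebra.FormallyEtale.of_isSeparable k (ResidueField A)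
  set m := maximalIdeal A
  let q : ∀ n, (A ⧸ m ^ (n + 1)) →ₐ[k] ResidueField A := fun n =>
    Ideal.Quotient.liftₐ (m ^ (n + 1)) (IsScalarTower.toAlgHom k A (ResidueField A)) fun a ha =>
      (residue_eq_zero_iff a).2 (Ideal.pow_le_self (Nat.succ_ne_zero n) ha)
  have hqmk : ∀ n a, q n (Ideal.Quotient.mk _ a) = residue A a := fun _ _ => rfl
  have hqs : ∀ n, Function.Surjective (q n) := fun n e => by
    obtain ⟨a, rfl⟩ := residue_surjective e
    exact ⟨_, hqmk n a⟩
  have hqk : ∀ n, IsNilpotent (RingHom.ker (q n : (A ⧸ m ^ (n + 1)) →+* ResidueField A)) := fun n => by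
    refine ⟨n + 1, le_bot_iff.1 ?_⟩
    have hker : RingHom.ker (q n : (A ⧸ m ^ (n + 1)) →+* ResidueField A) ≤ m.map (Ideal.Quotient.mk (m ^ (n + 1))) := by
      intro w hw
      obtain ⟨w, rfl⟩ := Ideal.Quotient.mk_surjective w
      exact Ideal.mem_map_of_mem _ ((residue_eq_zero_iff w).1 hw)
    refine (Ideal.pow_right_mono hker (n + 1)).trans (le_of_eq ?_)
    exact (Ideal.map_pow (Ideal.Quotient.mk (m ^ (n + 1))) m (n + 1)).symm.trans (Ideal.map_quotient_self _)
  let σ : ∀ n, ResidueField A →ₐ[k] A ⧸ m ^ (n + 1) := fun n =>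
    Algebra.FormallySmooth.liftOfSurjective (AlgHom.id k (ResidueField A)) (q n) (hqs n) (hqk n)
  have hσ : ∀ n e, q n (σ n e) = e := fun n e =>
    Algebra.FormallySmooth.liftOfSurjective_apply _ (q n) (hqs n) (hqk n) e
  let f : ∀ n, ResidueField A →+* A ⧸ m ^ n := fun n =>
    (Ideal.Quotient.factorPow m (Nat.le_succ n)).comp (σ n).toRingHom
  have hcomp : ∀ {i j : ℕ} (hij : i ≤ j) (e : ResidueField A),
      Ideal.Quotient.factorPow m (Nat.succ_le_succ hij) (σ j e) = σ i e := by
    intro i j hij e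
    refine DFunLike.congr_fun (Algebra.FormallyUnramified.ext (R := k) (A := ResidueField A) _ (hqk i)
      (g₁ := (Ideal.Quotient.factorₐ k (Ideal.pow_le_pow_right (Nat.succ_le_succ hij))).comp (σ j)) (g₂ := σ i)
      fun e => Ideal.Quotient.eq.2 ?_) e
    show _ - _ ∈ RingHom.ker (q i : (A ⧸ m ^ (i + 1)) →+* ResidueField A)
    rw [RingHom.mem_ker, RingHom.coe_coe, map_sub, hσ, sub_eq_zero]
    obtain ⟨w, hw⟩ := Ideal.Quotient.mk_surjective (σ j e)
    rw [AlgHom.comp_apply, ← hw]
    show q i (Ideal.Quotient.mk _ w) = e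
    rw [hqmk, ← hqmk j, hw, hσ]
  have hf : ∀ {i j : ℕ} (hij : i ≤ j), (Ideal.Quotient.factorPow m hij).comp (f j) = f i := by
    intro i j hij
    refine RingHom.ext fun e => ?_
    show Ideal.Quotient.factorPow m hij (Ideal.Quotient.factorPow m (Nat.le_succ j) (σ j e)) = _
    obtain ⟨w, hw⟩ := Ideal.Quotient.mk_surjective (σ j e)
    have h2 := hcomp hij e
    rw [← hw] at h2 ⊢
    show _ = Ideal.Quotient.factorPow m (Nat.le_succ i) (σ i e)
    rw [← h2]
    rfl
  let ι := AdicCompletion.liftRingHom m f hf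
  have hι : ∀ n e, AdicCompletion.evalₐ m n (ι e) = Ideal.Quotient.factorPow m (Nat.le_succ n) (σ n e) := fun n e =>
    AdicCompletion.evalₐ_liftRingHom m f hf n e
  refine ⟨ι, fun t => AdicCompletion.ext_evalₐ fun n => ?_, fun r => ?_⟩
  · rw [hι, (σ n).commutes, AlgHom.commutes]
    rfl
  · obtain ⟨w, rfl⟩ := residue_surjective r
    obtain ⟨a, ha⟩ := Ideal.Quotient.mk_surjective (AdicCompletion.evalₐ m 1 w)
    refine ⟨residue A a, Ideal.Quotient.eq.2 ?_⟩
    have hker : ∀ z : Ah, AdicCompletion.evalₐ m 1 z = 0 → z ∈ maximalIdeal Ah := fun z hz => by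
      rw [mem_maximalIdeal]
      intro hu
      have h1 := hu.map (AdicCompletion.evalₐ m 1)
      rw [hz] at h1
      haveI : Nontrivial (A ⧸ m ^ 1) :=
        Ideal.Quotient.nontrivial_iff.2 (by rw [pow_one]; exact (maximalIdeal.isMaximal A).ne_top)
      exact not_isUnit_zero h1
    refine hker _ ?_
    rw [map_sub, hι, ← ha, sub_eq_zero]
    obtain ⟨b, hb⟩ := Ideal.Quotient.mk_surjective (σ 1 (residue A a))
    rw [← hb, show Ideal.Quotient.factorPow m (Nat.le_succ 1) (Ideal.Quotient.mk _ b) = Ideal.Quotient.mk _ b from rfl,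
      Ideal.Quotient.eq, pow_one, ← residue_eq_zero_iff, map_sub, ← hqmk 1, hb, hσ, sub_self]

/-- quadratic local rings with separable residue field have a model as completion -/
theorem exists_model_completion (k : Type u) [Field k] [Algebra k A] [Algebra.IsSeparable k (ResidueField A)]
    (h : IsQuadLocal A) : ∃ a b c : ResidueField A, disc a b c ≠ 0 ∧ ∃ e : Ah ≃+* Model a b c,
      ∀ t : k, e (algebraMap A Ah (algebraMap k A t)) =
        Ideal.Quotient.mk _ (MvPowerSeries.C (algebraMap k (ResidueField A) t)) := by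
  obtain ⟨ι, hι, hres⟩ := exists_coeffField (A := A) k
  letI : Algebra (ResidueField A) Ah := ι.toAlgebra
  haveI := isAdicComplete_completion (A := A)
  obtain ⟨a, b, c, hd, ⟨e⟩⟩ := exists_equiv_model (F := ResidueField A) (C := Ah) hres (isQuadLocal_completion_iff.2 h)
  refine ⟨a, b, c, hd, e.symm.toRingEquiv, fun t => ?_⟩
  rw [← hι]
  show e.symm (algebraMap (ResidueField A) Ah _) = _
  rw [AlgEquiv.commutes, IsScalarTower.algebraMap_apply (ResidueField A) (MvPowerSeries (Fin 2) (ResidueField A)) (Model a b c),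
    MvPowerSeries.algebraMap_apply, Algebra.algebraMap_self]
  rfl

theorem isQuadLocal_of_completion_equiv {F : Type u} [Field F] {a b c : F} (hd : disc a b c ≠ 0)
    (e : Ah ≃+* Model a b c) : IsQuadLocal A :=
  isQuadLocal_completion_iff.1 ((isQuadLocal_model a b c hd).of_ringEquiv e.symm)

end Completion

section Split

variable {L : Type u} [Field L]

/-- over an algebraically closed field every nondegenerate form is `XY` -/
theorem exists_equiv_cross [IsAlgClosed L] {a b c : L} (hd : disc a b c ≠ 0) :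
    Nonempty (Model a b c ≃ₐ[L] Model (0 : L) 1 0) := by
  -- a factorisation of the form
  obtain ⟨p, q, r, s, hpa, hpb, hpc⟩ : ∃ p q r s : L, p * r = a ∧ p * s + q * r = b ∧ q * s = c := by
    by_cases ha : a = 0
    · exact ⟨0, 1, b, c, by simp [ha], by simp, by simp⟩
    obtain ⟨ρ, hρ⟩ := IsAlgClosed.exists_root (Polynomial.C a * Polynomial.X ^ 2 + Polynomial.C b * Polynomial.X +
      Polynomial.C c) (by rw [Polynomial.degree_quadratic ha]; decide)
    simp [Polynomial.IsRoot] at hρ
    exact ⟨1, -ρ, a, a * ρ + b, by simp, by ring, by linear_combination -hρ⟩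
  have hdet : p * s - q * r ≠ 0 := fun h => hd (by
    rw [← hpa, ← hpb, ← hpc]
    simp only [disc]
    linear_combination (p * s - q * r) * h)
  set D := (p * s - q * r)⁻¹
  have hD : D * (p * s - q * r) = 1 := inv_mul_cancel₀ hdet
  let P := MvPowerSeries (Fin 2) L
  haveI : IsAdicComplete (maximalIdeal L) L := by
    rw [IsLocalRing.maximalIdeal_eq_bot]; infer_instance
  haveI : IsAdicComplete (maximalIdeal P) P := ArtKit.isAdicComplete_mvPowerSeries (σ := Fin 2)
  let X : Fin 2 → P := fun i => MvPowerSeries.X i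
  have hlin : ∀ u v : L, MvPowerSeries.C u * X 0 + MvPowerSeries.C v * X 1 ∈ maximalIdeal P := fun u v =>
    add_mem (Ideal.mul_mem_left _ _ (X_mem 0)) (Ideal.mul_mem_left _ _ (X_mem 1))
  obtain ⟨φ, hφ⟩ := ArtKit.exists_evalAdic (R := L) (maximalIdeal P)
    ![MvPowerSeries.C p * X 0 + MvPowerSeries.C q * X 1, MvPowerSeries.C r * X 0 + MvPowerSeries.C s * X 1]
    (fun i => by fin_cases i <;> exact hlin _ _)
  obtain ⟨ψ, hψ⟩ := ArtKit.exists_evalAdic (R := L) (maximalIdeal P)
    ![MvPowerSeries.C (D * s) * X 0 + MvPowerSeries.C (-(D * q)) * X 1,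
      MvPowerSeries.C (-(D * r)) * X 0 + MvPowerSeries.C (D * p) * X 1]
    (fun i => by fin_cases i <;> exact hlin _ _)
  have hC : ∀ (g : P →ₐ[L] P) (e : L), g (MvPowerSeries.C e) = MvPowerSeries.C e := fun g e => by
    have := g.commutes e
    rwa [MvPowerSeries.algebraMap_apply, Algebra.algebraMap_self, RingHom.id_apply] at this
  have hφ0 := hφ 0
  have hφ1 := hφ 1
  have hψ0 := hψ 0
  have hψ1 := hψ 1
  simp only [Matrix.cons_val_zero, Matrix.cons_val_one, X] at hφ0 hφ1 hψ0 hψ1
  have hD' := congrArg (MvPowerSeries.C (σ := Fin 2) (R := L)) hD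
  simp only [map_mul, map_sub, map_one] at hD'
  have f1 : ∀ i, φ (ψ (MvPowerSeries.X i)) = MvPowerSeries.X i := fun i => by
    fin_cases i
    · show φ (ψ (MvPowerSeries.X 0)) = MvPowerSeries.X 0
      simp only [hψ0, hφ0, hφ1, map_add, map_mul, map_neg, hC]
      linear_combination (MvPowerSeries.X 0 : P) * hD'
    · show φ (ψ (MvPowerSeries.X 1)) = MvPowerSeries.X 1
      simp only [hψ1, hφ0, hφ1, map_add, map_mul, map_neg, hC]
      linear_combination (MvPowerSeries.X 1 : P) * hD'
  have f2 : ∀ i, ψ (φ (MvPowerSeries.X i)) = MvPowerSeries.X i := fun i => by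
    fin_cases i
    · show ψ (φ (MvPowerSeries.X 0)) = MvPowerSeries.X 0
      simp only [hψ0, hψ1, hφ0, map_add, map_mul, map_neg, hC]
      linear_combination (MvPowerSeries.X 0 : P) * hD'
    · show ψ (φ (MvPowerSeries.X 1)) = MvPowerSeries.X 1
      simp only [hψ0, hψ1, hφ1, map_add, map_mul, map_neg, hC]
      linear_combination (MvPowerSeries.X 1 : P) * hD'
  have e1 : φ.comp ψ = AlgHom.id L P := ArtKit.algHom_ext_adic (maximalIdeal P) f1 fun i => by
    rw [AlgHom.comp_apply, f1]; exact X_mem i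
  have e2 : ψ.comp φ = AlgHom.id L P := ArtKit.algHom_ext_adic (maximalIdeal P) f2 fun i => by
    rw [AlgHom.comp_apply, f2]; exact X_mem i
  let E : P ≃ₐ[L] P := AlgEquiv.ofAlgHom φ ψ e1 e2
  refine ⟨(Ideal.quotientEquivAlg _ _ E ?_).symm⟩
  rw [Ideal.map_span, Set.image_singleton]
  congr 2
  show qPS a b c = φ (qPS 0 1 0)
  simp only [qPS, map_add, map_mul, map_pow, map_zero, map_one, hC, hφ0, hφ1, ← hpa, ← hpb, ← hpc]
  ring

variable (L) in
theorem span_cross : Ideal.span {(MvPowerSeries.X 0 * MvPowerSeries.X 1 : MvPowerSeries (Fin 2) L)} =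
    Ideal.span {qPS (0 : L) 1 0} := by
  simp [qPS]

local notation "Ah" => AdicCompletion (maximalIdeal A) A

variable [IsAlgClosed L] [Algebra L A]

/-- ordinary double points are the quadratic local rings -/
theorem isOrdDoublePt_iff (hres : Function.Surjective (algebraMap L (ResidueField A))) :
    Curv2.IsOrdDoublePt L A ↔ IsQuadLocal A := by
  constructor
  · rintro ⟨e, -⟩
    exact isQuadLocal_of_completion_equiv (a := (0 : L)) (b := 1) (c := 0) (by simp [disc])
      (e.trans (Ideal.quotEquivOfEq (span_cross L)))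
  · intro h
    letI : Algebra L Ah := ((algebraMap A Ah).comp (algebraMap L A)).toAlgebra
    haveI := isAdicComplete_completion (A := A)
    have hs : Function.Surjective ((residue Ah).comp (algebraMap L Ah)) := fun r => by
      obtain ⟨w, rfl⟩ := residue_surjective r
      obtain ⟨a, ha⟩ := Ideal.Quotient.mk_surjective (AdicCompletion.evalOneₐ (maximalIdeal A) w)
      obtain ⟨l, hl⟩ := hres (residue A a)
      refine ⟨l, Ideal.Quotient.eq.2 ?_⟩
      rw [AdicCompletion.maximalIdeal_eq_map, ← AdicCompletion.ker_evalOneₐ_eq_map _ (IsNoetherian.noetherian _),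
        RingHom.mem_ker]
      show AdicCompletion.evalOneₐ (maximalIdeal A) (algebraMap A Ah (algebraMap L A l) - w) = 0
      rw [map_sub, AlgHom.commutes, ← ha, sub_eq_zero]
      exact hl
    obtain ⟨a, b, c, hd, ⟨e⟩⟩ := exists_equiv_model (F := L) (C := Ah) hs (isQuadLocal_completion_iff.2 h)
    obtain ⟨e'⟩ := exists_equiv_cross hd
    refine ⟨(e.symm.trans e').toRingEquiv.trans (Ideal.quotEquivOfEq (span_cross L).symm), fun t => ?_⟩
    show Ideal.quotEquivOfEq (span_cross L).symm ((e.symm.trans e') (algebraMap L Ah t)) = _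
    rw [AlgEquiv.commutes]
    rfl

end Split

end Groth.Agent.NodeChar
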