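import Groth.Agent.NodeChar.Deriv
import Groth.Agent.NodeChar.Point
import Groth.Agent.GeomProp.BCStalk

/-!
Nodes are the points with separable residue field and quadratic local ring.
-/

set_option autoImplicit false
set_option linter.style.haveILetI false

universe u

open CategoryTheory AlgebraicGeometry Limits IsLocalRing
open scoped TensorProduct

namespace Groth.Agent.NodeChar

attribute [local instance] Curv2.stalkAlgebra
attribute [local instance] Algebra.TensorProduct.rightAlgebra

section Algebra

variable {k A L : Type u} [Field k] [CommRing A] [Field L] [Algebra k A] [Algebra k L]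
variable {Q : Ideal (A ⊗[k] L)} [Q.IsPrime] [IsLocalRing A]

local notation "B" => Localization.AtPrime Q

/-- separable residue fields stay separable -/
theorem isSeparable_residue (hQ : Q.comap (algebraMap A (A ⊗[k] L)) = maximalIdeal A)
    [Algebra.IsSeparable k (ResidueField A)] : Algebra.IsSeparable L (ResidueField B) := by
  let K := ResidueField B
  let κ := ResidueField A
  let i : κ →+* K := Ideal.Quotient.lift (maximalIdeal A) ((residue B).comp (algebraMap A B)) fun a ha =>
    (residue_eq_zero_iff _).2 ((comap_eq hQ).ge ha)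
  letI : Algebra k K := ((algebraMap L K).comp (algebraMap k L)).toAlgebra
  haveI : IsScalarTower k L K := IsScalarTower.of_algebraMap_eq fun _ => rfl
  let iA : κ →ₐ[k] K :=
    { toRingHom := i
      commutes' := fun t => by
        show residue B (algebraMap A B (algebraMap k A t)) = residue B (algebraMap L B (algebraMap k L t))
        rw [algebraMap_comm] }
  refine (separableClosure.eq_top_iff (F := L) (E := K)).1 (eq_top_iff.2 fun e _ => ?_)
  obtain ⟨w, rfl⟩ := residue_surjective e
  let S := separableClosure L K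
  have hT : ∀ t : A ⊗[k] L, residue B (algebraMap _ B t) ∈ S := fun t => by
    induction t using TensorProduct.induction_on with
    | zero => simp only [map_zero, zero_mem]
    | add p q hp hq => rw [map_add, map_add]; exact add_mem hp hq
    | tmul a l =>
      rw [show (a ⊗ₜ[k] l : A ⊗[k] L) = a ⊗ₜ 1 * 1 ⊗ₜ l by simp, map_mul, map_mul, ← algebraMap_left,
        ← algebraMap_right]
      refine mul_mem ?_ (S.algebraMap_mem l)
      rw [mem_separableClosure_iff]
      have h1 : IsSeparable k (iA (residue A a)) := by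
        unfold IsSeparable
        rw [minpoly.algHom_eq iA iA.injective]
        exact Algebra.IsSeparable.isSeparable k _
      exact IsSeparable.tower_top L h1
  obtain ⟨t, s, rfl⟩ := IsLocalization.exists_mk'_eq Q.primeCompl w
  have hne : residue B (algebraMap _ B (s : A ⊗[k] L)) ≠ 0 :=
    ((IsLocalization.map_units B s).map (residue B)).ne_zero
  have e1 : residue B (IsLocalization.mk' B t s) =
      residue B (algebraMap _ B t) / residue B (algebraMap _ B (s : A ⊗[k] L)) := by
    rw [eq_div_iff hne, ← map_mul, IsLocalization.mk'_spec]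
  rw [e1]
  exact div_mem (hT t) (hT s)

theorem surjective_residue [IsAlgClosed L] [Algebra.IsSeparable L (ResidueField B)] :
    Function.Surjective (algebraMap L (ResidueField B)) :=
  IsAlgClosed.algebraMap_bijective_of_isIntegral.2

variable [IsNoetherianRing A] [Algebra.EssFiniteType k A]
  (hQ : Q.comap (algebraMap A (A ⊗[k] L)) = maximalIdeal A)

include hQ in
/-- quadratic points descend along field extensions -/
theorem descend_field [Algebra.IsSeparable L (ResidueField B)] (h : IsQuadLocal B) :
    Algebra.IsSeparable k (ResidueField A) ∧ IsQuadLocal A := by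
  have hm := map_eq_of_isQuadLocal hQ h
  haveI := isLocalHom_algebraMap hQ
  haveI : Module.Flat A B := flat_algebraMap
  exact ⟨isSeparable_of_map_eq hQ hm, h.descend hm⟩

include hQ in
/-- quadratic points ascend along field extensions -/
theorem ascend_field [Algebra.IsSeparable k (ResidueField A)] (h : IsQuadLocal A) :
    Algebra.IsSeparable L (ResidueField B) ∧ IsQuadLocal B := by
  haveI : Module.Flat A B := flat_algebraMap
  exact ⟨isSeparable_residue hQ, h.map (map_eq_of_isSeparable hQ)⟩

end Algebra

/-- ordinary double points are rational -/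
theorem residue_surjective_of_isOrdDoublePt {L B : Type u} [Field L] [CommRing B] [IsLocalRing B] [IsNoetherianRing B]
    [Algebra L B] (h : Curv2.IsOrdDoublePt L B) : Function.Surjective (algebraMap L (ResidueField B)) := by
  obtain ⟨e, he⟩ := h
  intro r
  obtain ⟨w, rfl⟩ := residue_surjective r
  obtain ⟨f, hf⟩ := Ideal.Quotient.mk_surjective (e (algebraMap B _ w))
  refine ⟨MvPowerSeries.constantCoeff f, Ideal.Quotient.eq.2 ?_⟩
  set l := MvPowerSeries.constantCoeff f
  have hnu : ¬IsUnit (e (algebraMap B _ (w - algebraMap L B l))) := by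
    rw [map_sub, map_sub, he, ← hf, ← map_sub]
    intro hu
    obtain ⟨g, hg⟩ := Ideal.Quotient.mk_surjective hu.unit⁻¹.val
    have h1 : Ideal.Quotient.mk (Ideal.span {(MvPowerSeries.X 0 * MvPowerSeries.X 1 : MvPowerSeries (Fin 2) L)})
        ((f - MvPowerSeries.C l) * g - 1) = 0 := by
      rw [map_sub, map_mul, hg, map_one, IsUnit.mul_val_inv, sub_self]
    rw [Ideal.Quotient.eq_zero_iff_mem, Ideal.mem_span_singleton'] at h1
    obtain ⟨v, hv⟩ := h1
    have := congrArg MvPowerSeries.constantCoeff hv
    simp [l] at this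
  have hm : w - algebraMap L B l ∈ maximalIdeal B :=
    (mem_maximalIdeal _).2 fun hu => hnu ((hu.map (algebraMap B _)).map e)
  rw [show algebraMap L B l - w = -(w - algebraMap L B l) by ring]
  exact neg_mem hm

section Scheme

variable (k : Type u) [Field k] (X : Scheme.{u}) [X.Over (Spec (CommRingCat.of k))]

/-- local rings of a scheme locally of finite type over a field -/
theorem essFiniteType_stalk [LocallyOfFiniteType (X ↘ Spec (CommRingCat.of k))] (x : X) :
    Algebra.EssFiniteType k (X.presheaf.stalk x) := by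
  let p := X ↘ Spec (CommRingCat.of k)
  obtain ⟨_, ⟨U, hU, rfl⟩, hxU, -⟩ := X.isBasis_affineOpens.exists_subset_of_mem_open (Set.mem_univ x) isOpen_univ
  let φ : CommRingCat.of k ⟶ Γ(X, U) := (Scheme.ΓSpecIso (CommRingCat.of k)).inv ≫ p.appLE ⊤ U le_top
  have hft : φ.hom.FiniteType :=
    (RingHom.finiteType_respectsIso.cancel_left_isIso _ (p.appLE ⊤ U le_top)).2
      (LocallyOfFiniteType.finiteType_appLE p (isAffineOpen_top _) hU le_top)
  letI : Algebra k Γ(X, U) := φ.hom.toAlgebra
  haveI : Algebra.FiniteType k Γ(X, U) := hft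
  letI : Algebra Γ(X, U) (X.presheaf.stalk x) := (X.presheaf.germ U x hxU).hom.toAlgebra
  haveI : IsScalarTower k Γ(X, U) (X.presheaf.stalk x) := IsScalarTower.of_algebraMap_eq' (by
    show ((Scheme.ΓSpecIso (CommRingCat.of k)).inv ≫ p.app ⊤ ≫ X.presheaf.germ ⊤ x trivial).hom =
      ((Scheme.ΓSpecIso (CommRingCat.of k)).inv ≫ p.appLE ⊤ U le_top ≫ X.presheaf.germ U x hxU).hom
    rw [Scheme.Hom.app_eq_appLE, ← Scheme.Hom.appLE_map p le_top (homOfLE (le_top : U ≤ ⊤)).op, Category.assoc,
      X.presheaf.germ_res]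
    rfl)
  haveI : IsLocalization.AtPrime (X.presheaf.stalk x) (hU.primeIdealOf ⟨x, hxU⟩).asIdeal :=
    hU.isLocalization_stalk ⟨x, hxU⟩
  haveI : Algebra.EssFiniteType Γ(X, U) (X.presheaf.stalk x) :=
    Algebra.EssFiniteType.of_isLocalization _ (hU.primeIdealOf ⟨x, hxU⟩).asIdeal.primeCompl
  exact Algebra.EssFiniteType.comp k Γ(X, U) _

theorem isNoetherianRing_stalk [LocallyOfFiniteType (X ↘ Spec (CommRingCat.of k))] (x : X) :
    IsNoetherianRing (X.presheaf.stalk x) :=
  haveI := essFiniteType_stalk k X x
  Algebra.EssFiniteType.isNoetherianRing k _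

/-- separable residue field implies closed -/
theorem isClosed_of_isSeparable [LocallyOfFiniteType (X ↘ Spec (CommRingCat.of k))] (x : X)
    [Algebra.IsSeparable k (ResidueField (X.presheaf.stalk x))] : IsClosed ({x} : Set X) := by
  let p := X ↘ Spec (CommRingCat.of k)
  haveI : JacobsonSpace X := LocallyOfFiniteType.jacobsonSpace p
  haveI := essFiniteType_stalk k X x
  let A := X.presheaf.stalk x
  haveI : Algebra.EssFiniteType k (ResidueField A) :=
    Algebra.EssFiniteType.of_surjective (IsScalarTower.toAlgHom k A (ResidueField A)) residue_surjective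
  haveI := Algebra.FormallyUnramified.of_isSeparable k (ResidueField A)
  haveI : Module.Finite k (ResidueField A) := Algebra.FormallyUnramified.finite_of_free k (ResidueField A)
  rw [isClosed_singleton_iff_locallyOfFiniteType]
  haveI : LocallyOfFiniteType (X.fromSpecResidueField x ≫ p) := by
    have e : X.fromSpecResidueField x ≫ p = Spec.map (CommRingCat.ofHom (algebraMap k (ResidueField A))) := by
      show (Spec.map (X.residue x) ≫ X.fromSpecStalk x) ≫ p = _
      rw [Category.assoc, GeomProp.fromSpecStalk_over, ← Spec.map_comp]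
      rfl
    rw [e]
    exact (HasRingHomProperty.Spec_iff (P := @LocallyOfFiniteType)).2 (RingHom.finiteType_algebraMap.2 inferInstance)
  exact locallyOfFiniteType_of_comp _ p

variable (L : Type u) [Field L] [Algebra k L]

/-- the local ring at a point of the base change -/
theorem exists_point (y : Curv2.bc k X L) :
    ∃ (Q : Ideal (X.presheaf.stalk (Curv2.bcFst k X L y) ⊗[k] L)) (_ : Q.IsPrime),
      Q.comap (algebraMap (X.presheaf.stalk (Curv2.bcFst k X L y)) _) = maximalIdeal _ ∧
        ∃ e : Localization.AtPrime Q ≃+* (Curv2.bc k X L).presheaf.stalk y,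
          ∀ l : L, e (algebraMap L (Localization.AtPrime Q) l) =
            @Curv2.stalkMap L _ (Curv2.bc k X L) ⟨Curv2.bcSnd k X L⟩ y l := by
  let p := X ↘ Spec (CommRingCat.of k)
  let g := Spec.map (CommRingCat.ofHom (algebraMap k L))
  let x := Curv2.bcFst k X L y
  let O := X.presheaf.stalk x
  let T := O ⊗[k] L
  let j := X.fromSpecStalk x
  haveI : Flat j := GrpField.flat_fromSpecStalk x
  haveI : Flat (pullback.fst (Curv2.bcFst k X L) j) := inferInstance
  haveI : IsPreimmersion (pullback.fst (Curv2.bcFst k X L) j) := inferInstance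
  have h1 : IsPullback (pullback.snd (Curv2.bcFst k X L) j)
      (pullback.fst (Curv2.bcFst k X L) j ≫ pullback.snd p g) (j ≫ p) g :=
    (IsPullback.of_hasPullback (Curv2.bcFst k X L) j).flip.paste_vert (IsPullback.of_hasPullback p g)
  rw [GeomProp.fromSpecStalk_over k X x] at h1
  let e : pullback (Curv2.bcFst k X L) j ≅ Spec (CommRingCat.of T) :=
    h1.isoPullback ≪≫ pullbackSpecIso k O L
  let h : Spec (CommRingCat.of T) ⟶ Curv2.bc k X L := e.inv ≫ pullback.fst (Curv2.bcFst k X L) j
  haveI : Flat h := inferInstanceAs (Flat (e.inv ≫ _))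
  haveI : IsPreimmersion h := inferInstanceAs (IsPreimmersion (e.inv ≫ _))
  have he : e.inv ≫ pullback.snd (Curv2.bcFst k X L) j =
      Spec.map (CommRingCat.ofHom (algebraMap O T)) := by
    show (pullbackSpecIso k O L).inv ≫ h1.isoPullback.inv ≫ pullback.snd (Curv2.bcFst k X L) j = _
    rw [h1.isoPullback_inv_fst]
    exact pullbackSpecIso_inv_fst k O L
  have he2 : h ≫ Curv2.bcSnd k X L = Spec.map (CommRingCat.ofHom (algebraMap L T)) := by
    show (pullbackSpecIso k O L).inv ≫ h1.isoPullback.inv ≫ pullback.fst (Curv2.bcFst k X L) j ≫ pullback.snd p g = _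
    rw [h1.isoPullback_inv_snd]
    exact pullbackSpecIso_inv_snd k O L
  obtain ⟨w, hw1, hw2⟩ := Scheme.Pullback.exists_preimage_pullback (f := Curv2.bcFst k X L) (g := j) y
    (IsLocalRing.closedPoint O) (Scheme.fromSpecStalk_closedPoint).symm
  let z := e.hom w
  have hz : h z = y := by
    show (e.hom ≫ e.inv ≫ pullback.fst (Curv2.bcFst k X L) j) w = y
    rw [Iso.hom_inv_id_assoc, hw1]
  have hclosed : Spec.map (CommRingCat.ofHom (algebraMap O T)) z = IsLocalRing.closedPoint O := by
    rw [← he]
    show (e.hom ≫ e.inv ≫ pullback.snd (Curv2.bcFst k X L) j) w = _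
    rw [Iso.hom_inv_id_assoc, hw2]
  refine ⟨z.asIdeal, z.isPrime, congrArg PrimeSpectrum.asIdeal hclosed, ?_⟩
  letI : Algebra T ((Spec (CommRingCat.of T)).presheaf.stalk z) := StructureSheaf.stalkAlgebra T z
  haveI : IsLocalization.AtPrime ((Spec (CommRingCat.of T)).presheaf.stalk z) z.asIdeal :=
    StructureSheaf.IsLocalization.to_stalk T z
  let e₁ : Localization.AtPrime z.asIdeal ≃ₐ[T] (Spec (CommRingCat.of T)).presheaf.stalk z :=
    IsLocalization.algEquiv z.asIdeal.primeCompl _ _
  let e₂ := (RingEquiv.ofBijective (h.stalkMap z).hom (GeomProp.bijective_stalkMap h z))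
  have key : ∃ e' : Localization.AtPrime z.asIdeal ≃+* (Curv2.bc k X L).presheaf.stalk (h z),
      ∀ l : L, e' (algebraMap L (Localization.AtPrime z.asIdeal) l) =
        @Curv2.stalkMap L _ (Curv2.bc k X L) ⟨Curv2.bcSnd k X L⟩ (h z) l := by
    refine ⟨e₁.toRingEquiv.trans e₂.symm, fun l => ?_⟩
    show e₂.symm (e₁ (algebraMap L (Localization.AtPrime z.asIdeal) l)) = _
    rw [RingEquiv.symm_apply_eq, IsScalarTower.algebraMap_apply L T (Localization.AtPrime z.asIdeal), e₁.commutes]
    show StructureSheaf.toStalk T z (algebraMap L T l) =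
      h.stalkMap z ((Curv2.bc k X L).presheaf.germ ⊤ (h z) trivial
        ((Curv2.bcSnd k X L).appTop ((Scheme.ΓSpecIso (CommRingCat.of L)).inv l)))
    rw [Scheme.Hom.germ_stalkMap_apply h ⊤ z trivial]
    have e3 : h.app ⊤ ((Curv2.bcSnd k X L).appTop ((Scheme.ΓSpecIso (CommRingCat.of L)).inv l)) =
        (Scheme.ΓSpecIso (CommRingCat.of T)).inv (algebraMap L T l) := by
      show ((Curv2.bcSnd k X L).appTop ≫ h.appTop) _ = _
      rw [← Scheme.Hom.comp_appTop, he2]
      show ((Scheme.ΓSpecIso (CommRingCat.of L)).inv ≫ (Spec.map (CommRingCat.ofHom (algebraMap L T))).appTop) l = _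
      rw [← Scheme.ΓSpecIso_inv_naturality]
      rfl
    rw [e3]
    rfl
  rw [hz] at key
  exact key

variable [LocallyOfFiniteType (X ↘ Spec (CommRingCat.of k))]

/-- data at a point of the base change, in the language of quadratic rings -/
theorem point_iff (y : Curv2.bc k X L) :
    letI : (Curv2.bc k X L).Over (Spec (CommRingCat.of L)) := ⟨Curv2.bcSnd k X L⟩
    (Algebra.IsSeparable k (ResidueField (X.presheaf.stalk (Curv2.bcFst k X L y))) ∧
        IsQuadLocal (X.presheaf.stalk (Curv2.bcFst k X L y))) ↔
      (Algebra.IsSeparable L (ResidueField ((Curv2.bc k X L).presheaf.stalk y)) ∧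
        IsQuadLocal ((Curv2.bc k X L).presheaf.stalk y)) := by
  letI : (Curv2.bc k X L).Over (Spec (CommRingCat.of L)) := ⟨Curv2.bcSnd k X L⟩
  obtain ⟨Q, _, hQ, e, he⟩ := exists_point k X L y
  haveI := essFiniteType_stalk k X (Curv2.bcFst k X L y)
  haveI := isNoetherianRing_stalk k X (Curv2.bcFst k X L y)
  let ea : ResidueField (Localization.AtPrime Q) ≃ₐ[L] ResidueField ((Curv2.bc k X L).presheaf.stalk y) :=
    { toRingEquiv := IsLocalRing.ResidueField.mapEquiv e
      commutes' := fun l => congrArg (residue _) (he l) }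
  constructor
  · rintro ⟨hs, hq⟩
    obtain ⟨hs', hq'⟩ := ascend_field hQ hq
    exact ⟨Algebra.IsSeparable.of_algHom L _ ea.symm.toAlgHom, hq'.of_ringEquiv e⟩
  · rintro ⟨hs, hq⟩
    haveI : Algebra.IsSeparable L (ResidueField (Localization.AtPrime Q)) :=
      Algebra.IsSeparable.of_algHom L _ ea.toAlgHom
    exact descend_field hQ (hq.of_ringEquiv e.symm)

/-- nodes are the quadratic points with separable residue field -/
theorem isNode_iff (x : X) :
    Curv2.IsNode k X x ↔ Algebra.IsSeparable k (ResidueField (X.presheaf.stalk x)) ∧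
      IsQuadLocal (X.presheaf.stalk x) := by
  let K := AlgebraicClosure k
  letI : (Curv2.bc k X K).Over (Spec (CommRingCat.of K)) := ⟨Curv2.bcSnd k X K⟩
  haveI : LocallyOfFiniteType ((Curv2.bc k X K) ↘ Spec (CommRingCat.of K)) :=
    inferInstanceAs (LocallyOfFiniteType (Curv2.bcSnd k X K))
  constructor
  · rintro ⟨-, xb, rfl, hod⟩
    haveI := isNoetherianRing_stalk K (Curv2.bc k X K) xb
    have hres := residue_surjective_of_isOrdDoublePt hod
    haveI : Algebra.IsSeparable K (ResidueField ((Curv2.bc k X K).presheaf.stalk xb)) := ⟨fun r => by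
      obtain ⟨l, rfl⟩ := hres r
      exact isSeparable_algebraMap l⟩
    exact (point_iff k X K xb).2 ⟨inferInstance, (isOrdDoublePt_iff hres).1 hod⟩
  · rintro ⟨hs, hq⟩
    refine ⟨isClosed_of_isSeparable k X x, ?_⟩
    haveI : Surjective (Spec.map (CommRingCat.ofHom (algebraMap k K))) := ⟨fun z => ⟨⟨⊥, Ideal.isPrime_bot⟩,
      Subsingleton.elim _ _⟩⟩
    obtain ⟨xb, rfl⟩ := (Curv2.bcFst k X K).surjective x
    refine ⟨xb, rfl, ?_⟩
    obtain ⟨hs', hq'⟩ := (point_iff k X K xb).1 ⟨hs, hq⟩
    haveI := isNoetherianRing_stalk K (Curv2.bc k X K) xb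
    haveI := hs'
    have hres : Function.Surjective (algebraMap K (ResidueField ((Curv2.bc k X K).presheaf.stalk xb))) :=
      IsAlgClosed.algebraMap_bijective_of_isIntegral.2
    exact (isOrdDoublePt_iff hres).2 hq'

end Scheme

end Groth.Agent.NodeChar
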