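import Mathlib

/-!
Quadratic local rings: the intrinsic form of an ordinary double point.
-/

set_option autoImplicit false
set_option linter.style.haveILetI false

universe u

open IsLocalRing

namespace Groth.Agent.NodeChar

section Forms

variable {A : Type u} [CommRing A]

/-- a binary quadratic form -/
abbrev qf (a b c x y : A) : A := a * x ^ 2 + b * x * y + c * y ^ 2

/-- its discriminant -/
abbrev disc (a b c : A) : A := b ^ 2 - 4 * a * c

theorem qf_comp (a b c p r s t x y : A) :
    qf a b c (p * x + r * y) (s * x + t * y) =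
      qf (qf a b c p s) (2 * a * p * r + b * (p * t + r * s) + 2 * c * s * t) (qf a b c r t) x y := by
  ring

theorem disc_comp (a b c p r s t : A) :
    disc (qf a b c p s) (2 * a * p * r + b * (p * t + r * s) + 2 * c * s * t) (qf a b c r t) =
      (p * t - r * s) ^ 2 * disc a b c := by
  ring

theorem map_qf {B : Type u} [CommRing B] (f : A →+* B) (a b c x y : A) :
    f (qf a b c x y) = qf (f a) (f b) (f c) (f x) (f y) := by
  simp [qf]

end Forms

variable {A : Type u} [CommRing A] [IsLocalRing A]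

/-- a nondegenerate quadratic relation between two generators of the maximal ideal -/
structure QuadData (x y a b c : A) : Prop where
  span : maximalIdeal A = Ideal.span {x, y}
  isUnit_a : IsUnit a
  isUnit_disc : IsUnit (disc a b c)
  mem : qf a b c x y ∈ maximalIdeal A ^ 3

/-- independence of the two standard monomials in every degree -/
def Ind (x y : A) : Prop :=
  ∀ (n : ℕ) (α β : A), α * (x * y ^ n) + β * y ^ (n + 1) ∈ maximalIdeal A ^ (n + 2) →
    α ∈ maximalIdeal A ∧ β ∈ maximalIdeal A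

variable (A) in
/-- a quadratic local ring -/
def IsQuadLocal : Prop := ∃ x y a b c : A, QuadData x y a b c ∧ Ind x y

theorem QuadData.mem_x {x y a b c : A} (h : QuadData x y a b c) : x ∈ maximalIdeal A :=
  h.span ▸ Ideal.subset_span (Set.mem_insert _ _)

theorem QuadData.mem_y {x y a b c : A} (h : QuadData x y a b c) : y ∈ maximalIdeal A :=
  h.span ▸ Ideal.subset_span (Set.mem_insert_of_mem _ rfl)

theorem QuadData.pow_le {x y a b c : A} (h : QuadData x y a b c) :
    ∀ n : ℕ, maximalIdeal A ^ (n + 1) ≤ Ideal.span {x * y ^ n, y ^ (n + 1)} ⊔ maximalIdeal A ^ (n + 2) := by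
  intro n
  induction n with
  | zero =>
    rw [zero_add, pow_one, pow_zero, mul_one, pow_one, ← h.span]
    exact le_sup_left
  | succ n ih =>
    rw [pow_succ']
    refine (Ideal.mul_mono_right ih).trans ?_
    rw [Ideal.mul_sup]
    refine sup_le ?_ ?_
    · nth_rw 1 [h.span]
      rw [Ideal.mul_le]
      intro u hu v hv
      obtain ⟨p, r, rfl⟩ := Ideal.mem_span_pair.1 hu
      obtain ⟨s, t, rfl⟩ := Ideal.mem_span_pair.1 hv
      obtain ⟨a', ha'⟩ := h.isUnit_a.exists_left_inv
      have key : (p * x + r * y) * (s * (x * y ^ n) + t * y ^ (n + 1)) =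
          ((p * t + r * s - p * s * a' * b) * (x * y ^ (n + 1)) + (r * t - p * s * a' * c) * y ^ (n + 2)) +
            p * s * a' * (qf a b c x y * y ^ n) := by
        have e : p * s * (x * (x * y ^ n)) = p * s * (a' * a) * (x * (x * y ^ n)) := by rw [ha', mul_one]
        linear_combination e
      rw [key]
      refine Submodule.add_mem_sup (Ideal.mem_span_pair.2 ⟨_, _, rfl⟩) (Ideal.mul_mem_left _ _ ?_)
      rw [show n + 1 + 2 = 3 + n by omega, pow_add]
      exact Ideal.mul_mem_mul h.mem (Ideal.pow_mem_pow h.mem_y n)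
    · rw [← pow_succ']
      exact le_sup_right

theorem exists_repr {x y a b c : A} (h : QuadData x y a b c) {n : ℕ} {z : A} (hz : z ∈ maximalIdeal A ^ (n + 1)) :
    ∃ p q : A, z - (p * (x * y ^ n) + q * y ^ (n + 1)) ∈ maximalIdeal A ^ (n + 2) := by
  obtain ⟨u, hu, v, hv, rfl⟩ := Submodule.mem_sup.1 (h.pow_le n hz)
  obtain ⟨p, q, rfl⟩ := Ideal.mem_span_pair.1 hu
  exact ⟨p, q, by rw [add_sub_cancel_left]; exact hv⟩

/-- independence does not depend on the coordinates -/
theorem Ind.change {x y a b c x' y' a' b' c' : A} (h : QuadData x y a b c) (hI : Ind x y)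
    (h' : QuadData x' y' a' b' c') : Ind x' y' := by
  intro n α β hαβ
  obtain ⟨p11, p12, hp1⟩ := exists_repr h' (n := n) (z := x * y ^ n) (by
    rw [pow_succ']
    exact Ideal.mul_mem_mul h.mem_x (Ideal.pow_mem_pow h.mem_y n))
  obtain ⟨p21, p22, hp2⟩ := exists_repr h' (n := n) (Ideal.pow_mem_pow h.mem_y (n + 1))
  obtain ⟨q11, q12, hq1⟩ := exists_repr h (n := n) (z := x' * y' ^ n) (by
    rw [pow_succ']
    exact Ideal.mul_mem_mul h'.mem_x (Ideal.pow_mem_pow h'.mem_y n))
  obtain ⟨q21, q22, hq2⟩ := exists_repr h (n := n) (Ideal.pow_mem_pow h'.mem_y (n + 1))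
  have e1 := hI n (p11 * q11 + p12 * q21 - 1) (p11 * q12 + p12 * q22) (by
    have hm := add_mem (add_mem hp1 (Ideal.mul_mem_left _ p11 hq1)) (Ideal.mul_mem_left _ p12 hq2)
    convert! neg_mem hm using 1
    ring)
  have e2 := hI n (p21 * q11 + p22 * q21) (p21 * q12 + p22 * q22 - 1) (by
    have hm := add_mem (add_mem hp2 (Ideal.mul_mem_left _ p21 hq1)) (Ideal.mul_mem_left _ p22 hq2)
    convert! neg_mem hm using 1
    ring)
  have e3 := hI n (α * q11 + β * q21) (α * q12 + β * q22) (by
    have hm := sub_mem hαβ (add_mem (Ideal.mul_mem_left _ α hq1) (Ideal.mul_mem_left _ β hq2))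
    convert! hm using 1
    ring)
  simp only [← residue_eq_zero_iff, map_add, map_mul, map_sub, map_one] at e1 e2 e3 ⊢
  set r := residue A
  constructor
  · have hu : r α * (r q11 * r q22 - r q12 * r q21) = 0 := by linear_combination r q22 * e3.1 - r q21 * e3.2
    refine (mul_eq_zero.1 hu).resolve_right fun h0 => ?_
    have : ((r p11 * r q11 + r p12 * r q21) * (r p21 * r q12 + r p22 * r q22) -
        (r p11 * r q12 + r p12 * r q22) * (r p21 * r q11 + r p22 * r q21)) = 0 := by
      linear_combination (r p11 * r p22 - r p12 * r p21) * h0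
    rw [sub_eq_zero.1 e1.1, sub_eq_zero.1 e2.2, e1.2, e2.1] at this
    simp at this
  · have hu : r β * (r q11 * r q22 - r q12 * r q21) = 0 := by linear_combination r q11 * e3.2 - r q12 * e3.1
    refine (mul_eq_zero.1 hu).resolve_right fun h0 => ?_
    have : ((r p11 * r q11 + r p12 * r q21) * (r p21 * r q12 + r p22 * r q22) -
        (r p11 * r q12 + r p12 * r q22) * (r p21 * r q11 + r p22 * r q21)) = 0 := by
      linear_combination (r p11 * r p22 - r p12 * r p21) * h0
    rw [sub_eq_zero.1 e1.1, sub_eq_zero.1 e2.2, e1.2, e2.1] at this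
    simp at this

/-- every nondegenerate relation can be normalised -/
theorem exists_quadData {x y a b c : A} (hs : maximalIdeal A = Ideal.span {x, y}) (hd : IsUnit (disc a b c))
    (hq : qf a b c x y ∈ maximalIdeal A ^ 3) :
    ∃ x' y' a' b' c' : A, QuadData x' y' a' b' c' ∧ qf a' b' c' x' y' = qf a b c x y := by
  by_cases ha : IsUnit a
  · exact ⟨x, y, a, b, c, ⟨hs, ha, hd, hq⟩, rfl⟩
  by_cases hc : IsUnit c
  · refine ⟨y, x, c, b, a, ⟨by rw [hs, Set.pair_comm], hc, ?_, ?_⟩, ?_⟩
    · rw [show disc c b a = disc a b c by ring]; exact hd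
    · rw [show qf c b a y x = qf a b c x y by ring]; exact hq
    · ring
  have hm : a ∈ maximalIdeal A ∧ c ∈ maximalIdeal A := ⟨(mem_maximalIdeal _).2 ha, (mem_maximalIdeal _).2 hc⟩
  refine ⟨x, y - x, a + b + c, b + 2 * c, c, ⟨?_, ?_, ?_, ?_⟩, ?_⟩
  · rw [hs]
    refine le_antisymm (Ideal.span_le.2 ?_) (Ideal.span_le.2 ?_)
    · rintro z (rfl | rfl)
      · exact Ideal.subset_span (Set.mem_insert _ _)
      · exact Ideal.mem_span_pair.2 ⟨1, 1, by ring⟩
    · rintro z (rfl | rfl)
      · exact Ideal.subset_span (Set.mem_insert _ _)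
      · exact Ideal.mem_span_pair.2 ⟨-1, 1, by ring⟩
  · rw [← not_not (a := IsUnit (a + b + c)), ← mem_nonunits_iff, ← mem_maximalIdeal]
    intro h
    have hb : b ∈ maximalIdeal A := by
      rw [show b = a + b + c - a - c by ring]
      exact sub_mem (sub_mem h hm.1) hm.2
    refine (mem_maximalIdeal (disc a b c)).1 ?_ hd
    exact sub_mem (Ideal.pow_mem_of_mem _ hb 2 two_pos) (Ideal.mul_mem_left _ _ hm.2)
  · rw [show disc (a + b + c) (b + 2 * c) c = disc a b c by ring]; exact hd
  · rw [show qf (a + b + c) (b + 2 * c) c x (y - x) = qf a b c x y by ring]; exact hq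
  · ring

section Transfer

variable {B : Type u} [CommRing B] [IsLocalRing B] [Algebra A B]

omit [IsLocalRing B] in
/-- independence modulo an ideal survives flat extension -/
theorem mem_map_of_flat [IsNoetherianRing A] [Module.Flat A B] (I : Ideal A) {l : ℕ} (p : Fin l → A)
    (h : ∀ α : Fin l → A, ∑ i, α i * p i ∈ I → ∀ i, α i ∈ maximalIdeal A) (α : Fin l → B)
    (hα : ∑ i, α i * algebraMap A B (p i) ∈ I.map (algebraMap A B)) (i : Fin l) :
    α i ∈ (maximalIdeal A).map (algebraMap A B) := by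
  obtain ⟨r, g, hg⟩ := Submodule.fg_iff_exists_fin_generating_family.1 (IsNoetherian.noetherian I)
  rw [← hg, Ideal.submodule_span_eq, Ideal.map_span, ← Set.range_comp] at hα
  obtain ⟨γ, hγ⟩ := Ideal.mem_span_range_iff_exists_fun.1 hα
  have hrel : ∑ j : Fin l ⊕ Fin r, (Sum.elim p g j) • (Sum.elim α (fun i => -γ i) j) = 0 := by
    simp only [Fintype.sum_sum_type, Sum.elim_inl, Sum.elim_inr, Algebra.smul_def]
    rw [show ∑ i, algebraMap A B (p i) * α i = ∑ i, α i * algebraMap A B (p i) from
      Finset.sum_congr rfl fun i _ => mul_comm _ _, ← hγ, ← Finset.sum_add_distrib]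
    exact Finset.sum_eq_zero fun i _ => by simp [Function.comp_apply]; ring
  obtain ⟨k, a, y, hy, ha⟩ := Module.Flat.isTrivialRelation_of_sum_smul_eq_zero (R := A) (M := B)
    (f := Sum.elim p g) (x := Sum.elim α fun i => -γ i) hrel
  have hi : α i = ∑ j, a (Sum.inl i) j • y j := hy (Sum.inl i)
  rw [hi]
  refine Ideal.sum_mem _ fun j _ => ?_
  rw [Algebra.smul_def]
  refine Ideal.mul_mem_right _ _ (Ideal.mem_map_of_mem _ (h (fun i => a (Sum.inl i) j) ?_ i))
  have hj := ha j
  simp only [Fintype.sum_sum_type, Sum.elim_inl, Sum.elim_inr] at hj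
  rw [show ∑ i, a (Sum.inl i) j * p i = -∑ i, g i * a (Sum.inr i) j by
    rw [eq_neg_iff_add_eq_zero, ← hj]
    exact congrArg (· + _) (Finset.sum_congr rfl fun i _ => mul_comm _ _)]
  exact neg_mem (Ideal.sum_mem _ fun i _ => Ideal.mul_mem_right _ _ (hg ▸ Submodule.subset_span ⟨i, rfl⟩))

variable [IsNoetherianRing A] [Module.Flat A B]

theorem Ind.map (hm : (maximalIdeal A).map (algebraMap A B) = maximalIdeal B) {x y : A} (hI : Ind x y) :
    Ind (algebraMap A B x) (algebraMap A B y) := by
  intro n α β hαβ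
  have key := mem_map_of_flat (B := B) (maximalIdeal A ^ (n + 2)) ![x * y ^ n, y ^ (n + 1)] (fun γ hγ i => by
    simp only [Fin.sum_univ_two, Matrix.cons_val_zero, Matrix.cons_val_one] at hγ
    obtain ⟨h0, h1⟩ := hI n _ _ hγ
    fin_cases i <;> assumption) ![α, β] (by
    simp only [Fin.sum_univ_two, Matrix.cons_val_zero, Matrix.cons_val_one, map_mul, map_pow]
    rw [Ideal.map_pow, hm]
    exact hαβ)
  rw [← hm]
  exact ⟨key 0, key 1⟩

omit [IsNoetherianRing A] [Module.Flat A B] in
theorem Ind.comap [IsLocalHom (algebraMap A B)] {x y : A} (hI : Ind (algebraMap A B x) (algebraMap A B y)) :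
    Ind x y := by
  intro n α β hαβ
  have hle : (maximalIdeal A).map (algebraMap A B) ≤ maximalIdeal B :=
    ((local_hom_TFAE (algebraMap A B)).out 0 2).1 ‹_›
  have h1 := hI n (algebraMap A B α) (algebraMap A B β) (by
    have := Ideal.pow_right_mono hle (n + 2) (Ideal.map_pow (algebraMap A B) _ _ ▸ Ideal.mem_map_of_mem _ hαβ)
    simpa using this)
  exact ⟨(mem_maximalIdeal _).2 fun hu => (mem_maximalIdeal _).1 h1.1 (hu.map _),
    (mem_maximalIdeal _).2 fun hu => (mem_maximalIdeal _).1 h1.2 (hu.map _)⟩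

omit [IsNoetherianRing A] [Module.Flat A B] in
theorem QuadData.map (hm : (maximalIdeal A).map (algebraMap A B) = maximalIdeal B) {x y a b c : A}
    (h : QuadData x y a b c) :
    QuadData (algebraMap A B x) (algebraMap A B y) (algebraMap A B a) (algebraMap A B b) (algebraMap A B c) := by
  refine ⟨?_, h.isUnit_a.map _, ?_, ?_⟩
  · rw [← hm, h.span, Ideal.map_span, Set.image_insert_eq, Set.image_singleton]
  · have := h.isUnit_disc.map (algebraMap A B)
    simpa [disc, map_ofNat] using this
  · rw [← map_qf, ← hm, ← Ideal.map_pow]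
    exact Ideal.mem_map_of_mem _ h.mem

theorem IsQuadLocal.map (hm : (maximalIdeal A).map (algebraMap A B) = maximalIdeal B) (h : IsQuadLocal A) :
    IsQuadLocal B := by
  obtain ⟨x, y, a, b, c, hd, hI⟩ := h
  exact ⟨_, _, _, _, _, hd.map hm, hI.map hm⟩

/-- quadratic local rings descend along unramified flat extensions -/
theorem IsQuadLocal.descend [IsLocalHom (algebraMap A B)]
    (hm : (maximalIdeal A).map (algebraMap A B) = maximalIdeal B) (h : IsQuadLocal B) : IsQuadLocal A := by
  classical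
  haveI : Module.FaithfullyFlat A B := Module.FaithfullyFlat.of_flat_of_isLocalHom
  obtain ⟨X, Y, a₀, b₀, c₀, hd, hI⟩ := h
  obtain ⟨l, g, hg⟩ := Submodule.fg_iff_exists_fin_generating_family.1 (IsNoetherian.noetherian (maximalIdeal A))
  have hgm : ∀ i, g i ∈ maximalIdeal A := fun i => hg ▸ Submodule.subset_span ⟨i, rfl⟩
  have hgB : maximalIdeal B = Ideal.span (Set.range fun i => algebraMap A B (g i)) := by
    rw [← hm, ← hg, Ideal.submodule_span_eq, Ideal.map_span, ← Set.range_comp]
    rfl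
  have hgi : ∀ i, ∃ p r : B, p * X + r * Y = algebraMap A B (g i) := fun i =>
    Ideal.mem_span_pair.1 (hd.span ▸ hgB ▸ Ideal.subset_span ⟨i, rfl⟩)
  choose p r hpr using hgi
  obtain ⟨i, j, hij⟩ : ∃ i j, IsUnit (p i * r j - r i * p j) := by
    by_contra! hno
    obtain ⟨c1, hc1⟩ := Ideal.mem_span_range_iff_exists_fun.1 (hgB ▸ hd.mem_x)
    obtain ⟨c2, hc2⟩ := Ideal.mem_span_range_iff_exists_fun.1 (hgB ▸ hd.mem_y)
    simp only [← hpr, mul_add, ← mul_assoc, Finset.sum_add_distrib, ← Finset.sum_mul] at hc1 hc2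
    have h1 := hI 0 ((∑ i, c1 i * p i) - 1) (∑ i, c1 i * r i) (by
      rw [show ((∑ i, c1 i * p i) - 1) * (X * Y ^ 0) + (∑ i, c1 i * r i) * Y ^ (0 + 1) = 0 by linear_combination hc1]
      exact zero_mem _)
    have h2 := hI 0 (∑ i, c2 i * p i) ((∑ i, c2 i * r i) - 1) (by
      rw [show (∑ i, c2 i * p i) * (X * Y ^ 0) + ((∑ i, c2 i * r i) - 1) * Y ^ (0 + 1) = 0 by linear_combination hc2]
      exact zero_mem _)
    have h3 : (∑ i, c1 i * p i) * (∑ i, c2 i * r i) - (∑ i, c1 i * r i) * (∑ i, c2 i * p i) ∈ maximalIdeal B := by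
      rw [Finset.sum_mul_sum, Finset.sum_mul_sum, ← Finset.sum_sub_distrib]
      refine Ideal.sum_mem _ fun i _ => ?_
      rw [← Finset.sum_sub_distrib]
      refine Ideal.sum_mem _ fun j _ => ?_
      rw [show c1 i * p i * (c2 j * r j) - c1 i * r i * (c2 j * p j) = c1 i * c2 j * (p i * r j - r i * p j) by ring]
      exact Ideal.mul_mem_left _ _ ((mem_maximalIdeal _).2 (hno i j))
    simp only [← residue_eq_zero_iff, map_sub, map_mul, map_one] at h1 h2 h3
    rw [sub_eq_zero.1 h1.1, sub_eq_zero.1 h2.2, h1.2, h2.1] at h3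
    simp at h3
  obtain ⟨D, hD⟩ := hij.exists_left_inv
  set x := g i
  set y := g j
  set P := p i; set R := r i; set S := p j; set T := r j
  have hX : D * T * algebraMap A B x + -(D * R) * algebraMap A B y = X := by
    rw [← hpr i, ← hpr j]; linear_combination X * hD
  have hY : -(D * S) * algebraMap A B x + D * P * algebraMap A B y = Y := by
    rw [← hpr i, ← hpr j]; linear_combination Y * hD
  have hspan : maximalIdeal A = Ideal.span {x, y} := by
    refine le_antisymm ?_ (Ideal.span_le.2 (Set.insert_subset (hgm i) (Set.singleton_subset_iff.2 (hgm j))))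
    rw [← Ideal.comap_map_eq_self_of_faithfullyFlat (B := B) (Ideal.span {x, y})]
    rw [← Ideal.map_le_iff_le_comap, hm, hd.span, Ideal.map_span, Set.image_insert_eq, Set.image_singleton]
    exact Ideal.span_le.2 (Set.insert_subset (Ideal.mem_span_pair.2 ⟨_, _, hX⟩)
      (Set.singleton_subset_iff.2 (Ideal.mem_span_pair.2 ⟨_, _, hY⟩)))
  -- a relation in `A`
  obtain ⟨γ, hγ, hγm⟩ : ∃ γ : Fin 3 → A, ∑ i, γ i * ![x ^ 2, x * y, y ^ 2] i ∈ maximalIdeal A ^ 3 ∧
      ∃ i, γ i ∉ maximalIdeal A := by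
    by_contra! hno
    have key := mem_map_of_flat (B := B) (maximalIdeal A ^ 3) ![x ^ 2, x * y, y ^ 2] hno
      ![qf a₀ b₀ c₀ (D * T) (-(D * S)),
        2 * a₀ * (D * T) * -(D * R) + b₀ * ((D * T) * (D * P) + -(D * R) * -(D * S)) + 2 * c₀ * -(D * S) * (D * P),
        qf a₀ b₀ c₀ (-(D * R)) (D * P)] (by
      rw [Ideal.map_pow, hm]
      have h0 := hd.mem
      rw [← hX, ← hY, qf_comp] at h0
      convert! h0 using 1
      simp [Fin.sum_univ_three, qf]
      ring)
    rw [hm] at key
    have k0 := key 0; have k1 := key 1; have k2 := key 2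
    simp only [Matrix.cons_val_zero, Matrix.cons_val_one, Matrix.cons_val] at k0 k1 k2
    refine (mem_maximalIdeal a₀).1 ?_ hd.isUnit_a
    simp only [← residue_eq_zero_iff, map_add, map_mul, map_neg, map_pow, qf, map_ofNat] at k0 k1 k2 ⊢
    set q := residue B
    have hD' : q D * (q P * q T - q R * q S) = 1 := by
      rw [← map_mul, ← map_mul, ← map_sub, ← map_mul, hD, map_one]
    linear_combination (q P) ^ 2 * k0 + q P * q S * k1 + (q S) ^ 2 * k2 - q a₀ * (q D * (q P * q T - q R * q S) + 1) * hD'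
  let a := γ 0; let b := γ 1; let c := γ 2
  have hq : qf a b c x y ∈ maximalIdeal A ^ 3 := by
    convert! hγ using 1
    simp [Fin.sum_univ_three, qf, a, b, c]
    ring
  have hq' : qf (algebraMap A B a) (algebraMap A B b) (algebraMap A B c) (algebraMap A B x) (algebraMap A B y) ∈
      maximalIdeal B ^ 3 := by
    rw [← map_qf, ← hm, ← Ideal.map_pow]
    exact Ideal.mem_map_of_mem _ hq
  rw [← hpr i, ← hpr j, qf_comp] at hq'
  obtain ⟨a', ha'⟩ := hd.isUnit_a.exists_left_inv
  set A' := qf (algebraMap A B a) (algebraMap A B b) (algebraMap A B c) P S with hA'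
  set B' := 2 * algebraMap A B a * P * R + algebraMap A B b * (P * T + R * S) + 2 * algebraMap A B c * S * T with hB'
  set C' := qf (algebraMap A B a) (algebraMap A B b) (algebraMap A B c) R T with hC'
  have hrel := hI 1 (B' - A' * a' * b₀) (C' - A' * a' * c₀) (by
    have := sub_mem hq' (Ideal.mul_mem_left _ (A' * a') hd.mem)
    convert! this using 1
    simp only [qf]
    linear_combination A' * X ^ 2 * ha')
  have hdisc : IsUnit (disc (algebraMap A B a) (algebraMap A B b) (algebraMap A B c)) := by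
    have e := disc_comp (algebraMap A B a) (algebraMap A B b) (algebraMap A B c) P R S T
    rw [← hA', ← hB', ← hC'] at e
    refine isUnit_of_mul_isUnit_right (x := (P * T - R * S) ^ 2) ?_
    rw [← e, ← not_not (a := IsUnit _), ← mem_nonunits_iff, ← mem_maximalIdeal]
    intro hmem
    have hunit := (mem_maximalIdeal (disc a₀ b₀ c₀)).not.2 (not_not.2 hd.isUnit_disc)
    simp only [← residue_eq_zero_iff, map_sub, map_mul, map_pow, map_ofNat, disc] at hrel hmem hunit
    set q := residue B
    have haa : q a' * q a₀ = 1 := by rw [← map_mul, ha', map_one]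
    have h0 : (q A' * q a') ^ 2 * (q b₀ ^ 2 - 4 * q a₀ * q c₀) = 0 := by
      rw [sub_eq_zero.1 hrel.1, sub_eq_zero.1 hrel.2] at hmem
      linear_combination hmem - 4 * q A' ^ 2 * q a' * q c₀ * haa
    have hA0 : q A' = 0 := by
      have := pow_eq_zero_iff (n := 2) (by norm_num) |>.1 ((mul_eq_zero.1 h0).resolve_right hunit)
      exact (mul_eq_zero.1 this).resolve_right fun h => by simp [h] at haa
    have hB0 : q B' = 0 := by rw [sub_eq_zero.1 hrel.1, hA0]; ring
    have hC0 : q C' = 0 := by rw [sub_eq_zero.1 hrel.2, hA0]; ring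
    obtain ⟨l, hl⟩ := hγm
    refine hl ((mem_maximalIdeal _).2 fun hu => ?_)
    have hne : q (algebraMap A B (γ l)) ≠ 0 := fun h =>
      (mem_maximalIdeal _).1 ((residue_eq_zero_iff _).1 h) (hu.map _)
    apply hne
    simp only [hA', hB', hC', qf, map_add, map_mul, map_pow, map_ofNat] at hA0 hB0 hC0
    have hD' : q D * (q P * q T - q R * q S) = 1 := by
      rw [← map_mul, ← map_mul, ← map_sub, ← map_mul, hD, map_one]
    have hD2 : q D ^ 2 * (q P * q T - q R * q S) ^ 2 = 1 := by rw [← mul_pow, hD', one_pow]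
    fin_cases l
    · show q (algebraMap A B a) = 0
      linear_combination (q D ^ 2 * q T ^ 2) * hA0 - (q D ^ 2 * q T * q S) * hB0 + (q D ^ 2 * q S ^ 2) * hC0 -
        q (algebraMap A B a) * hD2
    · show q (algebraMap A B b) = 0
      linear_combination (-2 * q D ^ 2 * q T * q R) * hA0 + (q D ^ 2 * (q T * q P + q R * q S)) * hB0 -
        (2 * q D ^ 2 * q S * q P) * hC0 - q (algebraMap A B b) * hD2
    · show q (algebraMap A B c) = 0
      linear_combination (q D ^ 2 * q R ^ 2) * hA0 - (q D ^ 2 * q R * q P) * hB0 + (q D ^ 2 * q P ^ 2) * hC0 -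
        q (algebraMap A B c) * hD2
  have hdA : IsUnit (disc a b c) := by
    refine isUnit_of_map_unit (algebraMap A B) _ ?_
    simpa [disc, map_ofNat] using hdisc
  obtain ⟨x', y', a'', b'', c'', hd', -⟩ := exists_quadData hspan hdA hq
  exact ⟨x', y', a'', b'', c'', hd', ((hI.change hd) (hd'.map hm)).comap⟩

end Transfer

/-- invariance under isomorphism -/
theorem IsQuadLocal.of_ringEquiv {B : Type u} [CommRing B] [IsLocalRing B] (e : A ≃+* B) (h : IsQuadLocal A) :
    IsQuadLocal B := by
  obtain ⟨x, y, a, b, c, hd, hI⟩ := h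
  have hmem : ∀ (n : ℕ) (z : A), e z ∈ maximalIdeal B ^ n ↔ z ∈ maximalIdeal A ^ n := fun n z => by
    rw [← Ideal.mem_comap, ← Ideal.map_symm e, Ideal.map_pow]
    have hc : (maximalIdeal B).map (e.symm : B →+* A) = maximalIdeal A :=
      IsLocalRing.map_maximalIdeal_of_surjective _ e.symm.surjective
    exact iff_of_eq (congrArg (fun I : Ideal A => z ∈ I ^ n) hc)
  have hmem1 : ∀ z : A, e z ∈ maximalIdeal B ↔ z ∈ maximalIdeal A := fun z => by
    simpa using hmem 1 z
  refine ⟨e x, e y, e a, e b, e c, ⟨?_, hd.isUnit_a.map e, ?_, ?_⟩, fun n α β hαβ => ?_⟩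
  · rw [← IsLocalRing.map_maximalIdeal_of_surjective (e : A →+* B) e.surjective, hd.span, Ideal.map_span,
      Set.image_insert_eq, Set.image_singleton]
    rfl
  · have := hd.isUnit_disc.map e
    simpa [disc, map_ofNat] using this
  · rw [show qf (e a) (e b) (e c) (e x) (e y) = e (qf a b c x y) from (map_qf (e : A →+* B) a b c x y).symm, hmem]
    exact hd.mem
  · obtain ⟨α, rfl⟩ := e.surjective α
    obtain ⟨β, rfl⟩ := e.surjective β
    rw [← map_pow, ← map_pow, ← map_mul, ← map_mul, ← map_mul, ← map_add, hmem] at hαβ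
    exact ⟨(hmem1 α).2 (hI n α β hαβ).1, (hmem1 β).2 (hI n α β hαβ).2⟩

end Groth.Agent.NodeChar
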