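import Groth.Agent.NodeChar.Geom
import Groth.Agent.GeomProp.SmoothPoint
import Groth.Agent.SmLocalST.EtReg
import Groth.Agent.TopDegRep.Basic
import Groth.Agent.RegDual.Scheme
import Groth.Agent.RegLoc.Order

/-!
Reduced curves inside at-worst-nodal curves.
-/

set_option autoImplicit false
set_option linter.style.haveILetI false
set_option maxHeartbeats 1000000

universe u

open CategoryTheory AlgebraicGeometry Limits IsLocalRing
open scoped TensorProduct

namespace Groth.Agent.NodeChar

open Groth.Agent

attribute [local instance] Curv2.stalkAlgebra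
attribute [local instance] Algebra.TensorProduct.rightAlgebra

variable (k : Type u) [Field k] (X : Scheme.{u}) [X.Over (Spec (CommRingCat.of k))]
  [LocallyOfFiniteType (X ↘ Spec (CommRingCat.of k))]

/-- regular points with separable residue field are smooth -/
theorem mem_smoothLocus_of_regular_separable (x : X) (hreg : IsRegularLocalRing (X.presheaf.stalk x))
    [Algebra.IsSeparable k (ResidueField (X.presheaf.stalk x))] :
    x ∈ (X ↘ Spec (CommRingCat.of k)).smoothLocus := by
  let K := AlgebraicClosure k
  haveI : Surjective (Spec.map (CommRingCat.ofHom (algebraMap k K))) := ⟨fun z => ⟨⟨⊥, Ideal.isPrime_bot⟩,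
    Subsingleton.elim _ _⟩⟩
  obtain ⟨y, rfl⟩ := (Curv2.bcFst k X K).surjective x
  refine GeomProp.mem_smoothLocus_of_bc_regular k X _ K y rfl ?_
  obtain ⟨Q, _, hQ, e, -⟩ := exists_point k X K y
  haveI := essFiniteType_stalk k X (Curv2.bcFst k X K y)
  haveI := isNoetherianRing_loc (k := k) (Q := Q)
  haveI := flat_algebraMap (k := k) (Q := Q)
  haveI := isLocalHom_algebraMap hQ
  haveI := hreg
  suffices IsRegularLocalRing (Localization.AtPrime Q) from IsRegularLocalRing.of_ringEquiv e
  refine IsRegularLocalRing.of_spanFinrank_maximalIdeal_le _ ?_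
  rw [← map_eq_of_isSeparable hQ]
  calc (((((maximalIdeal _).map (algebraMap (X.presheaf.stalk (Curv2.bcFst k X K y)) (Localization.AtPrime Q))).spanFinrank
          : ℕ)) : WithBot ℕ∞)
      ≤ ((maximalIdeal (X.presheaf.stalk (Curv2.bcFst k X K y))).spanFinrank : ℕ) :=
        by exact_mod_cast Ideal.spanFinrank_map_le_of_fg _ (IsNoetherian.noetherian _)
    _ = ringKrullDim (X.presheaf.stalk (Curv2.bcFst k X K y)) := IsRegularLocalRing.spanFinrank_maximalIdeal
    _ ≤ ringKrullDim (Localization.AtPrime Q) := SmLocalST.ringKrullDim_le_of_flat_local _ _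

/-- reduced rings with principal maximal ideal are regular -/
theorem isRegularLocalRing_of_isPrincipal {A : Type u} [CommRing A] [IsLocalRing A] [IsNoetherianRing A] [IsReduced A]
    (h : (maximalIdeal A).IsPrincipal) : IsRegularLocalRing A := by
  refine IsRegularLocalRing.of_spanFinrank_maximalIdeal_le _ ?_
  obtain ⟨u, hu⟩ := h
  by_cases hu0 : u = 0
  · rw [hu, hu0, Submodule.span_zero_singleton, Submodule.spanFinrank_bot, Nat.cast_zero]
    exact ringKrullDim_nonneg_of_nontrivial
  have h1 : (maximalIdeal A).spanFinrank ≤ 1 := by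
    rw [hu]
    exact (Submodule.spanFinrank_span_le_ncard_of_finite (Set.finite_singleton u)).trans (Set.ncard_singleton u).le
  refine le_trans (by exact_mod_cast h1 : ((maximalIdeal A).spanFinrank : WithBot ℕ∞) ≤ 1) ?_
  by_contra hd
  haveI : Ring.KrullDimLE 0 A := Ring.krullDimLE_iff.2 (by
    have hpos := ringKrullDim_nonneg_of_nontrivial (R := A)
    revert hd hpos
    induction ringKrullDim A using WithBot.recBotCoe with
    | bot => simp
    | coe n => intro hd _; simp only [not_le, Nat.cast_zero] at hd ⊢; exact le_of_eq (by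
        have : n < 1 := by exact_mod_cast hd
        exact_mod_cast (Order.lt_one_iff.1 this)))
  exact hu0 (IsReduced.eq_zero u (Ring.KrullDimLE.isNilpotent_iff_mem_maximalIdeal.2
    (hu ▸ Ideal.mem_span_singleton_self u)))

/-- reduced curves inside at-worst-nodal curves are at-worst-nodal -/
theorem atWorstNodal_of_closedImmersion {Y : Scheme.{u}} (ι : Y ⟶ X) [IsClosedImmersion ι]
    [AlgebraicGeometry.IsReduced Y]
    (hequi : ∀ Z ∈ irreducibleComponents (X : Type u), topologicalKrullDim Z = 1) (hX : Curv2.AtWorstNodal k X)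
    (hY : ∀ Z ∈ irreducibleComponents (Y : Type u), topologicalKrullDim Z = 1) :
    @Curv2.AtWorstNodal k _ Y ⟨ι ≫ (X ↘ Spec (CommRingCat.of k))⟩ := by
  let p := X ↘ Spec (CommRingCat.of k)
  letI : Y.Over (Spec (CommRingCat.of k)) := ⟨ι ≫ p⟩
  haveI : LocallyOfFiniteType (Y ↘ Spec (CommRingCat.of k)) := inferInstanceAs (LocallyOfFiniteType (ι ≫ p))
  intro y hy
  let q := Y ↘ Spec (CommRingCat.of k)
  have of_mem : y ∈ q.smoothLocus →
      (∃ U : Y.Opens, y ∈ U ∧ Smooth (U.ι ≫ (Y ↘ Spec (CommRingCat.of k)))) ∨ Curv2.IsNode k Y y := fun h =>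
    Or.inl ⟨q.smoothLocus, h, SmDesc.smooth_smoothLocus q⟩
  have hxc : IsClosed ({ι y} : Set X) := by
    simpa [Set.image_singleton] using ι.isClosedEmbedding.isClosedMap _ hy
  let A := X.presheaf.stalk (ι y)
  let B := Y.presheaf.stalk y
  have hsurj : Function.Surjective (ι.stalkMap y).hom := ι.stalkMap_surjective y
  letI : Algebra A B := (ι.stalkMap y).hom.toAlgebra
  haveI : IsLocalHom (algebraMap A B) := inferInstanceAs (IsLocalHom (ι.stalkMap y).hom)
  haveI := isNoetherianRing_stalk k X (ι y)
  haveI := isNoetherianRing_stalk k Y y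
  rcases hX (ι y) hxc with ⟨U, hyU, hU⟩ | hn
  · haveI := hU
    have hx : ι y ∈ p.smoothLocus := by
      have h1 : (⟨ι y, hyU⟩ : U.toScheme) ∈ (U.ι ≫ p).smoothLocus := by
        rw [Scheme.Hom.smoothLocus_eq_top]; trivial
      rw [← Scheme.Hom.preimage_smoothLocus_eq] at h1
      exact h1
    haveI : IsRegularLocalRing A := GeomProp.regular_stalk_of_mem_smoothLocus p hx
    haveI : IsDomain A := RegLoc.isDomain (A := A)
    have hB : ¬Ring.KrullDimLE 0 B := by
      intro h0
      obtain ⟨Z, hZ, hyZ⟩ := exists_mem_irreducibleComponents_subset_of_isIrreducible _ (isIrreducible_singleton (x := y))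
      have hη := hZ.1.isGenericPoint_genericPoint (isClosed_of_mem_irreducibleComponents Z hZ)
      have hle : y ≤ hZ.1.genericPoint := hη.specializes (hyZ rfl)
      have hne : ¬hZ.1.genericPoint ≤ y := fun h => by
        have he : hZ.1.genericPoint = y := (Specializes.antisymm hle h).eq
        have hZy : Z = {y} := by rw [← hη.def, he, hy.closure_eq]
        have := hY Z hZ
        rw [hZy] at this
        have h0 := topologicalKrullDim_zero_of_discreteTopology (({y} : Set Y) : Type u)
        rw [this] at h0
        exact absurd h0 (by norm_num)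
      have hpos : 0 < Order.coheight y := Order.coheight_pos.2 fun hmax => hne (hmax hle)
      have h1 := Ring.krullDimLE_iff.1 h0
      rw [ringKrullDim_stalk_eq_coheight, Nat.cast_zero] at h1
      exact absurd (WithBot.coe_le_coe.1 h1) (not_le.2 hpos)
    have hA1 : Ring.KrullDimLE 1 A := Ring.krullDimLE_iff.2
      ((RegDual.ringKrullDim_stalk_le_topologicalKrullDim (ι y)).trans
        (TopDegRep.topologicalKrullDim_le_of_components X 1 (by exact_mod_cast hequi)))
    haveI : IsIso (ι.stalkMap y) := by
      refine (ConcreteCategory.isIso_iff_bijective _).2 ⟨?_, hsurj⟩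
      rw [injective_iff_map_eq_zero]
      intro a ha
      by_contra ha0
      refine hB (Ring.krullDimLE_iff.2 ?_)
      let f : A ⧸ Ideal.span {a} →+* B := Ideal.Quotient.lift _ (ι.stalkMap y).hom fun w hw => by
        obtain ⟨v, rfl⟩ := Ideal.mem_span_singleton'.1 hw
        rw [map_mul]
        exact mul_eq_zero_of_right _ ha
      have hf : Function.Surjective f := fun b => by
        obtain ⟨w, rfl⟩ := hsurj b
        exact ⟨Ideal.Quotient.mk _ w, rfl⟩
      refine (ringKrullDim_le_of_surjective f hf).trans ?_
      have h2 := (ringKrullDim_quotient_succ_le_of_nonZeroDivisor (mem_nonZeroDivisors_of_ne_zero ha0)).trans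
        (Ring.krullDimLE_iff.1 hA1)
      rw [Nat.cast_one] at h2
      rw [Nat.cast_zero]
      revert h2
      induction ringKrullDim (A ⧸ Ideal.span {a}) using WithBot.recBotCoe with
      | bot => simp
      | coe n =>
        intro h2
        have h3 : n + 1 ≤ 1 := by exact_mod_cast h2
        exact_mod_cast (ENat.add_le_add_iff_right (show (1 : ℕ∞) ≠ ⊤ by simp)).1 (show n + 1 ≤ 0 + 1 by simpa using h3)
    refine of_mem ?_
    rw [Scheme.Hom.mem_smoothLocus]
    show ((ι ≫ p).stalkMap y).hom.FormallySmooth
    rw [Scheme.Hom.stalkMap_comp]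
    exact (RingHom.FormallySmooth.respectsIso.cancel_right_isIso _ (ι.stalkMap y)).2 hx
  · obtain ⟨hs, hq⟩ := (isNode_iff k X (ι y)).1 hn
    haveI : IsScalarTower k A B := IsScalarTower.of_algebraMap_eq fun t => by
      show Y.presheaf.germ ⊤ y trivial ((ι ≫ p).appTop ((Scheme.ΓSpecIso (CommRingCat.of k)).inv t)) =
        ι.stalkMap y (X.presheaf.germ ⊤ (ι y) trivial (p.appTop ((Scheme.ΓSpecIso (CommRingCat.of k)).inv t)))
      rw [Scheme.Hom.germ_stalkMap_apply ι ⊤ y trivial, Scheme.Hom.comp_appTop]
      rfl
    haveI := hs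
    haveI : Algebra.IsSeparable k (ResidueField B) :=
      Algebra.IsSeparable.of_algHom k _ (AlgEquiv.ofBijective
        ({ toRingHom := ResidueField.map (algebraMap A B)
           commutes' := fun t => congrArg (residue B) (IsScalarTower.algebraMap_apply k A B t).symm } :
          ResidueField A →ₐ[k] ResidueField B) ⟨RingHom.injective _, fun r => by
            obtain ⟨w, rfl⟩ := residue_surjective r
            obtain ⟨v, rfl⟩ := hsurj w
            exact ⟨residue A v, rfl⟩⟩).symm.toAlgHom
    by_cases hp : (maximalIdeal B).IsPrincipal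
    · exact of_mem (mem_smoothLocus_of_regular_separable k Y y (isRegularLocalRing_of_isPrincipal hp))
    · refine Or.inr ((isNode_iff k Y y).2 ⟨inferInstance, ?_⟩)
      obtain ⟨u, v, a, b, c, hd, -⟩ := hq
      have hmap : (maximalIdeal A).map (algebraMap A B) = maximalIdeal B :=
        IsLocalRing.map_maximalIdeal_of_surjective (algebraMap A B) hsurj
      have hd' := hd.map hmap
      exact isQuadLocal_of_isReduced hp hd'.span hd'.isUnit_disc hd'.mem

end Groth.Agent.NodeChar
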